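import Cfsg.Agent.Lib.Spor.JankoFourPentad.Main
import Cfsg.Agent.Lib.Spor.JankoFourFive.Main
import Cfsg.Agent.Lib.Spor.JankoFourCentral.Local
import Cfsg.Agent.Lib.Spor.LargeJ4.Assembly

/-!
The 2-local subgroup of a trio in a simple group of Janko-four type, given the recognition of the
groups with an involution centraliser `2^(1+4) S3`.
-/

set_option autoImplicit false

namespace CfsgLib.Spor.JankoFourPentad

open Cfsg CfsgLib.Spor

universe u

variable {G : Type u} [Group G] [Finite G] [IsSimpleGroup G]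

/-- the special subgroup of order `2^15` and its normaliser in a simple group of Janko-four type -/
theorem pentad_of_rec (hG : ¬ IsMulCommutative G) (hJ : Cfsg.IsOfJankoFourType G)
    (hrec : JankoFourFive.RecThirtyTwo.{u}) :
    ∃ L : Subgroup G, Cfsg.IsSpecial 2 ↥L ∧ Nat.card ↥L = 2 ^ 15 ∧
    Nat.card ↥(Subgroup.center ↥L) = 8 ∧
    Nonempty (↥(Subgroup.normalizer (L : Set G)) ⧸ L.subgroupOf (Subgroup.normalizer (L : Set G)) ≃*
      Equiv.Perm (Fin 5) × Matrix.SpecialLinearGroup (Fin 3) (ZMod 2)) ∧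
    (∀ K : Subgroup ↥(Subgroup.normalizer (L : Set G)),
      ¬ (L.subgroupOf (Subgroup.normalizer (L : Set G))).IsComplement' K) ∧
    (∃ K₁ : Subgroup G, K₁ ≤ Subgroup.normalizer (L : Set G) ∧
      Nonempty (↥K₁ ≃* Equiv.Perm (Fin 5))) ∧
    (∃ K₂ : Subgroup G, K₂ ≤ Subgroup.normalizer (L : Set G) ∧
      Nonempty (↥K₂ ≃* Matrix.SpecialLinearGroup (Fin 3) (ZMod 2))) ∧
    (∃ Q : Sylow 5 G, Subgroup.normalizer ((Q : Subgroup G) : Set G) ≤
      Subgroup.normalizer (L : Set G)) ∧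
    (∃ S : Sylow 7 G, Subgroup.normalizer ((S : Subgroup G) : Set G) ≤
      Subgroup.normalizer (L : Set G)) := by
  obtain ⟨z, hz⟩ := hJ
  obtain ⟨A, _, ⟨D⟩⟩ := LargeFi.J4.exists_eleven hG hz
  exact pentad_local (D := D) ⟨hz, D.core_fusion hz, D.cent_le hz⟩
    fun Q hQ hQz => JankoFourFive.local_five D hz hrec Q hQ hQz

end CfsgLib.Spor.JankoFourPentad
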