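import Cfsg.Agent.Lib.Spor.JankoFourPentad.SevenSide
import Cfsg.Agent.Lib.Spor.JankoFourCentral.AutM22
import Cfsg.Agent.Lib.Spor.TransvectionFive
import Cfsg.Agent.Lib.Small.A6Centralizer
import Cfsg.Agent.Lib.Classical.PSLSimple

/-!
The centraliser of a subgroup of order five in a group of Janko-four type, in a form that is
invariant under conjugation.
-/

set_option autoImplicit false
set_option maxRecDepth 100000
set_option linter.unusedSectionVars false

namespace CfsgLib.Spor.JankoFourPentad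

open Cfsg CfsgLib.Spor
open scoped Pointwise

universe u

theorem isSimple_SL32 : IsSimpleGroup (Matrix.SpecialLinearGroup (Fin 3) (ZMod 2)) := by
  haveI : Nontrivial (Matrix.SpecialLinearGroup (Fin 3) (ZMod 2)) := by
    rw [← Finite.one_lt_card_iff_nontrivial, CfsgLib.Spor.Tv5.card_SL3]; norm_num
  haveI := CfsgLib.Classical.isSimpleGroup_PSL_fin (F := ZMod 2) 3 (by norm_num) (by norm_num)
  exact IsSimpleGroup.isSimpleGroup_of_surjective
    (H := Matrix.SpecialLinearGroup (Fin 3) (ZMod 2))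
    ((QuotientGroup.quotientMulEquivOfEq CfsgLib.Small.center_SL_three_two).trans
      QuotientGroup.quotientBot).toMonoidHom (MulEquiv.surjective _)

/-- the hypothesis on subgroups of order five centralising `z` -/
def Five {G : Type u} [Group G] (z : G) : Prop :=
  ∀ Q : Subgroup G, Nat.card ↥Q = 5 → Q ≤ Subgroup.centralizer ({z} : Set G) →
    ¬ (25 ∣ Nat.card G) ∧
    (∃ J : Subgroup G, Cfsg.IsInternalDirectProduct Q J (Subgroup.centralizer (Q : Set G)) ∧
      ∃ (E : Subgroup ↥J) (_ : E.Normal), Cfsg.IsElementaryAbelian 2 E ∧ Nat.card ↥E = 8 ∧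
        Nonempty (↥J ⧸ E ≃* Matrix.SpecialLinearGroup (Fin 3) (ZMod 2)) ∧
        ∀ K : Subgroup ↥J, ¬ E.IsComplement' K) ∧
    (∃ R : Subgroup G, Q ≤ R ∧ R ≤ Subgroup.normalizer (Q : Set G) ∧ Nat.card ↥R = 20 ∧
      R ⊓ Subgroup.centralizer (Q : Set G) = Q) ∧
    Nat.card ↥(Subgroup.normalizer (Q : Set G)) = 2 ^ 8 * 3 * 5 * 7

variable {G : Type u} [Group G] [Finite G]

/-- the structure of the centraliser of a subgroup of order five -/
structure FiveData (Q J E : Subgroup G) : Prop where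
  cardQ : Nat.card Q = 5
  prod : Cfsg.IsInternalDirectProduct Q J (Subgroup.centralizer (Q : Set G))
  cardJ : Nat.card J = 1344
  cardN : Nat.card (Subgroup.normalizer (Q : Set G)) = 26880
  le : E ≤ J
  norm : J ≤ Subgroup.normalizer (E : Set G)
  elem : Cfsg.IsElementaryAbelian 2 E
  cardE : Nat.card E = 8
  simple : ∀ M : Subgroup G, M ≤ J → E ≤ M → J ≤ Subgroup.normalizer (M : Set G) → M = E ∨ M = J
  noCompl : ∀ K : Subgroup G, K ≤ J → Nat.card K = 168 → K ⊓ E = ⊥ → False

theorem exists_fiveData {z : G} (h5 : Five z) {Q : Subgroup G} (hQ : Nat.card Q = 5)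
    (hQz : Q ≤ Subgroup.centralizer ({z} : Set G)) : ∃ J E, FiveData Q J E := by
  obtain ⟨-, ⟨J, hprod, E, hE, hel, hE8, ⟨e⟩, hno⟩, -, hN⟩ := h5 Q hQ hQz
  have hJ : Nat.card J = 1344 := by
    rw [Subgroup.card_eq_card_quotient_mul_card_subgroup E, Nat.card_congr e.toEquiv, hE8,
      CfsgLib.Spor.Tv5.card_SL3]
  haveI := isSimple_SL32
  refine ⟨J, E.map J.subtype, hQ, hprod, hJ, hN.trans (by norm_num), Subgroup.map_subtype_le E,
    ?_, ?_, ?_, fun M hM hEM hMN => ?_, fun K hK hK168 hKE => ?_⟩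
  · intro j hj
    refine mem_normalizer_of_conj_le ?_
    rintro _ ⟨a, ha, rfl⟩
    exact ⟨⟨j, hj⟩ * a * ⟨j, hj⟩⁻¹, hE.conj_mem a ha _, rfl⟩
  · obtain ⟨⟨hcomm⟩, hexp⟩ := hel
    refine ⟨⟨⟨fun x y => Subtype.ext ?_⟩⟩, fun x hx => ?_⟩
    · obtain ⟨a, ha, ea⟩ := Subgroup.mem_map.1 x.2
      obtain ⟨b, hb, eb⟩ := Subgroup.mem_map.1 y.2
      show (x : G) * y = y * x
      rw [← ea, ← eb, ← map_mul, ← map_mul]
      exact congrArg _ (congrArg Subtype.val (hcomm.comm ⟨a, ha⟩ ⟨b, hb⟩))
    · obtain ⟨a, ha, ea⟩ := Subgroup.mem_map.1 hx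
      rw [← ea, ← map_pow, hexp a ha, map_one]
  · rw [Subgroup.card_map_of_injective J.subtype_injective, hE8]
  · haveI : (M.subgroupOf J).Normal := Subgroup.normal_subgroupOf_of_le_normalizer hMN
    have hEM' : E ≤ M.subgroupOf J := fun a ha =>
      Subgroup.mem_subgroupOf.2 (hEM ⟨a, ha, rfl⟩)
    let f : ↥J →* Matrix.SpecialLinearGroup (Fin 3) (ZMod 2) :=
      e.toMonoidHom.comp (QuotientGroup.mk' E)
    have hf : Function.Surjective f := e.surjective.comp (QuotientGroup.mk'_surjective E)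
    have hker : f.ker = E := by
      ext a
      rw [MonoidHom.mem_ker, ← QuotientGroup.eq_one_iff (N := E)]
      exact EmbeddingLike.map_eq_one_iff (f := e)
    have hback : ((M.subgroupOf J).map f).comap f = M.subgroupOf J := by
      rw [Subgroup.comap_map_eq, hker, sup_eq_left.2 hEM']
    have hmapJ : (M.subgroupOf J).map J.subtype = M := Subgroup.map_subgroupOf_eq_of_le hM
    rcases (Subgroup.Normal.map inferInstance f hf :
        ((M.subgroupOf J).map f).Normal).eq_bot_or_eq_top with h | h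
    · left
      rw [← hmapJ, ← hback, h, MonoidHom.comap_bot, hker]
    · right
      rw [← hmapJ, ← hback, h, Subgroup.comap_top, ← MonoidHom.range_eq_map, Subgroup.range_subtype]
  · refine hno (K.subgroupOf J) (Subgroup.isComplement'_of_card_mul_and_disjoint ?_ ?_)
    · rw [hE8, Nat.card_congr (Subgroup.subgroupOfEquivOfLe hK).toEquiv, hK168, hJ]
    · rw [disjoint_iff, Subgroup.eq_bot_iff_forall]
      intro a ha
      have : (a : G) ∈ K ⊓ E.map J.subtype :=
        ⟨Subgroup.mem_subgroupOf.1 ha.2, ⟨a, ha.1, rfl⟩⟩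
      rw [hKE, Subgroup.mem_bot] at this
      exact Subtype.ext this

theorem le_map_symm_iff {f : G ≃* G} {M H : Subgroup G} :
    M.map f.symm.toMonoidHom ≤ H ↔ M ≤ H.map f.toMonoidHom := by
  rw [Subgroup.map_le_iff_le_comap, Subgroup.map_equiv_eq_comap_symm']

/-- the data are invariant under conjugation -/
theorem FiveData.map {Q J E : Subgroup G} (h : FiveData Q J E) (g : G) :
    FiveData (Q.map (MulAut.conj g).toMonoidHom) (J.map (MulAut.conj g).toMonoidHom)
      (E.map (MulAut.conj g).toMonoidHom) := by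
  set f := (MulAut.conj g) with hf
  have hinj : Function.Injective f.toMonoidHom := f.injective
  have hback : ∀ M : Subgroup G, (M.map f.symm.toMonoidHom).map f.toMonoidHom = M := fun M => by
    rw [Subgroup.map_map]
    convert Subgroup.map_id M using 2
    ext a
    exact f.apply_symm_apply a
  obtain ⟨h1, h2, h3, h4, h5⟩ := h.prod
  refine ⟨by rw [Subgroup.card_map_of_injective hinj, h.cardQ], ?_,
    by rw [Subgroup.card_map_of_injective hinj, h.cardJ], ?_, Subgroup.map_mono h.le, ?_,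
    JankoFourCentral.Eleven.conj_elementary g h.elem,
    by rw [Subgroup.card_map_of_injective hinj, h.cardE], fun M hM hEM hMN => ?_,
    fun K hK hK168 hKE => ?_⟩
  · rw [← JankoFourSeven.map_cent]
    refine ⟨Subgroup.map_mono h1, Subgroup.map_mono h2, ?_, by
      rw [← Subgroup.map_inf _ _ _ hinj, h4, Subgroup.map_bot], by rw [← Subgroup.map_sup, h5]⟩
    rintro _ ⟨a, ha, rfl⟩ _ ⟨b, hb, rfl⟩
    rw [← map_mul, h3 a ha b hb, map_mul]
  · rw [← Subgroup.map_equiv_normalizer_eq, Subgroup.card_map_of_injective hinj, h.cardN]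
  · rw [← Subgroup.map_equiv_normalizer_eq]
    exact Subgroup.map_mono h.norm
  · have e1 : M.map f.symm.toMonoidHom ≤ J := le_map_symm_iff.2 hM
    have e2 : E ≤ M.map f.symm.toMonoidHom := by
      rw [← Subgroup.map_le_map_iff_of_injective hinj, hback]; exact hEM
    have e3 : J ≤ Subgroup.normalizer (M.map f.symm.toMonoidHom : Set G) := by
      rw [← Subgroup.map_le_map_iff_of_injective hinj, Subgroup.map_equiv_normalizer_eq, hback]
      exact hMN
    rcases h.simple _ e1 e2 e3 with e | e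
    · left; rw [← hback M, e]
    · right; rw [← hback M, e]
  · refine h.noCompl (K.map f.symm.toMonoidHom) (le_map_symm_iff.2 hK) ?_ ?_
    · rw [Subgroup.card_map_of_injective f.symm.injective, hK168]
    · apply Subgroup.map_injective hinj
      rw [Subgroup.map_inf _ _ _ hinj, hback, hKE, Subgroup.map_bot]

theorem card_centralizer {z : G} (hJ : Cfsg.IsOfJankoFourTypeAt z) :
    Nat.card ↥(Subgroup.centralizer ({z} : Set G)) = 2 ^ 21 * 3 ^ 3 * 5 * 7 * 11 := by
  obtain ⟨P, -, -, hE, -, ⟨N, -, hNH, -, hN, ⟨hn, ⟨e⟩⟩, -⟩, -⟩ := hJ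
  rw [Subgroup.card_eq_card_quotient_mul_card_subgroup
      (N.subgroupOf (Subgroup.centralizer ({z} : Set G))), Nat.card_congr e.toEquiv,
    JankoFourCentral.natCard_mulAut_M22, Nat.card_congr (Subgroup.subgroupOfEquivOfLe hNH).toEquiv, hN, hE]
  norm_num

/-- every subgroup of order five has the structure -/
theorem fiveData_of_card {z : G} (hJ : Cfsg.IsOfJankoFourTypeAt z) (h5 : Five z) :
    ¬ 25 ∣ Nat.card G ∧
      ∀ Q : Subgroup G, Nat.card Q = 5 → ∃ J E, FiveData Q J E := by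
  haveI : Fact (Nat.Prime 5) := ⟨by norm_num⟩
  obtain ⟨⟨q, hq⟩, hqo⟩ := exists_prime_orderOf_dvd_card'
    (G := ↥(Subgroup.centralizer ({z} : Set G))) 5
    (by rw [card_centralizer hJ]; norm_num)
  rw [Subgroup.orderOf_mk] at hqo
  let Q0 := Subgroup.zpowers q
  have hQ0 : Nat.card Q0 = 5 := by rw [Nat.card_zpowers, hqo]
  have hQ0z : Q0 ≤ Subgroup.centralizer ({z} : Set G) := Subgroup.zpowers_le.2 hq
  have h25 := (h5 Q0 hQ0 hQ0z).1
  refine ⟨h25, fun Q hQ => ?_⟩
  obtain ⟨J, E, hd⟩ := exists_fiveData h5 hQ0 hQ0z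
  have hdvd : 5 ∣ Nat.card G := hQ ▸ Subgroup.card_subgroup_dvd_card Q
  have hf : (Nat.card G).factorization 5 = 1 := by
    apply le_antisymm
    · by_contra h
      exact h25 ((show (25 : ℕ) = 5 ^ 2 by norm_num) ▸ (Nat.Prime.pow_dvd_iff_le_factorization
        (by norm_num) Nat.card_pos.ne').2 (by omega))
    · exact (Nat.Prime.pow_dvd_iff_le_factorization (by norm_num) Nat.card_pos.ne').1
        (by rwa [pow_one])
  let P0 : Sylow 5 G := Sylow.ofCard Q0 (by rw [hQ0, hf, pow_one])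
  let P1 : Sylow 5 G := Sylow.ofCard Q (by rw [hQ, hf, pow_one])
  obtain ⟨g, hg⟩ := MulAction.exists_smul_eq G P0 P1
  have he : Q0.map (MulAut.conj g).toMonoidHom = Q := by
    have h1 := congrArg (fun P : Sylow 5 G => (P : Subgroup G)) hg
    simp only [Sylow.coe_subgroup_smul, P0, P1, Sylow.coe_ofCard] at h1
    exact h1
  exact ⟨_, _, he ▸ hd.map g⟩

end CfsgLib.Spor.JankoFourPentad
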