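import Mathlib

/-!
Facts about elements of order four and five of the symmetric group of degree five, and transfer of
them along an isomorphism.
-/

set_option autoImplicit false
set_option maxRecDepth 100000

namespace CfsgLib.Spor.JankoFourPentad

/-- every element of order four squares or cubes an element of order five by conjugation -/
theorem perm5_four : ∀ x : Equiv.Perm (Fin 5), x ^ 4 = 1 → x * x ≠ 1 →
    ∃ q : Equiv.Perm (Fin 5), q ≠ 1 ∧ q ^ 5 = 1 ∧ (x * q = q ^ 2 * x ∨ x * q = q ^ 3 * x) := by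
  decide +kernel

/-- the centraliser and the normaliser of an element of order five -/
theorem perm5_five : ∀ q : Equiv.Perm (Fin 5), q ≠ 1 → q ^ 5 = 1 →
    (Finset.univ.filter fun g : Equiv.Perm (Fin 5) => g * q = q * g).card = 5 ∧
    (Finset.univ.filter fun g : Equiv.Perm (Fin 5) =>
      g * q = q * g ∨ g * q = q ^ 2 * g ∨ g * q = q ^ 3 * g ∨ g * q = q ^ 4 * g).card = 20 := by
  decide +kernel

theorem perm5_sign : ∀ x : Equiv.Perm (Fin 5), x ^ 4 = 1 → x * x ≠ 1 →
    Equiv.Perm.sign x ≠ 1 := by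
  decide +kernel

/-- a subgroup of index two contains no element of order four -/
theorem perm5_index_two {H : Subgroup (Equiv.Perm (Fin 5))} (hH : H.index = 2)
    {x : Equiv.Perm (Fin 5)} (hx : x ∈ H) (h4 : x ^ 4 = 1) (h2 : x * x ≠ 1) : False := by
  refine perm5_sign x h4 h2 (Equiv.Perm.mem_alternatingGroup.1 ?_)
  have hle : alternatingGroup (Fin 5) ≤ H := by
    rw [← Equiv.Perm.closure_three_cycles_eq_alternating, Subgroup.closure_le]
    intro g hg
    have h3 : g ^ 3 = 1 := by rw [← hg.orderOf]; exact pow_orderOf_eq_one g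
    have e : g = g ^ 2 * g ^ 2 := by
      rw [← pow_add, show 2 + 2 = 3 + 1 by norm_num, pow_succ, h3, one_mul]
    rw [e]
    exact Subgroup.mul_self_mem_of_index_two hH _
  have hc : Nat.card H = Nat.card (alternatingGroup (Fin 5)) := by
    have h := H.card_mul_index
    rw [hH, Nat.card_perm, Nat.card_fin] at h
    rw [nat_card_alternatingGroup, Nat.card_fin]
    omega
  rw [Subgroup.eq_of_le_of_card_ge hle hc.le]
  exact hx

variable {I : Type*} [Group I] (e : I ≃* Equiv.Perm (Fin 5))

include e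

theorem four_five {x : I} (h4 : x ^ 4 = 1) (h2 : x * x ≠ 1) :
    ∃ q : I, q ≠ 1 ∧ q ^ 5 = 1 ∧ (x * q = q ^ 2 * x ∨ x * q = q ^ 3 * x) := by
  obtain ⟨q, h1, h5, h⟩ := perm5_four (e x) (by rw [← map_pow, h4, map_one])
    (fun h => h2 (e.injective (by rw [map_mul, h, map_one])))
  refine ⟨e.symm q, fun h0 => h1 ?_, by rw [← map_pow, h5, map_one], ?_⟩
  · rw [← e.apply_symm_apply q, h0, map_one]
  · rcases h with h | h
    · exact Or.inl (e.injective (by simp [h]))
    · exact Or.inr (e.injective (by simp [h]))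

theorem card_comm_five {q : I} (h1 : q ≠ 1) (h5 : q ^ 5 = 1) :
    Nat.card {g : I // g * q = q * g} = 5 := by
  classical
  rw [← (perm5_five (e q) (fun h => h1 (e.injective (by rw [h, map_one])))
    (by rw [← map_pow, h5, map_one])).1, ← Nat.card_eq_finsetCard]
  refine Nat.card_congr ((e.toEquiv.subtypeEquiv fun g => ?_))
  rw [Finset.mem_filter]
  simp only [Finset.mem_univ, true_and, MulEquiv.toEquiv_eq_coe, EquivLike.coe_coe, ← map_mul,
    e.injective.eq_iff]

theorem card_norm_five {q : I} (h1 : q ≠ 1) (h5 : q ^ 5 = 1) :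
    Nat.card {g : I // g * q = q * g ∨ g * q = q ^ 2 * g ∨ g * q = q ^ 3 * g ∨ g * q = q ^ 4 * g}
      = 20 := by
  classical
  rw [← (perm5_five (e q) (fun h => h1 (e.injective (by rw [h, map_one])))
    (by rw [← map_pow, h5, map_one])).2, ← Nat.card_eq_finsetCard]
  refine Nat.card_congr ((e.toEquiv.subtypeEquiv fun g => ?_))
  rw [Finset.mem_filter]
  simp only [Finset.mem_univ, true_and, MulEquiv.toEquiv_eq_coe, EquivLike.coe_coe, ← map_mul,
    ← map_pow, e.injective.eq_iff]

theorem index_two {H : Subgroup I} (hH : H.index = 2) {x : I} (hx : x ∈ H) (h4 : x ^ 4 = 1)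
    (h2 : x * x ≠ 1) : False :=
  perm5_index_two (H := H.map e.toMonoidHom) (x := e x)
    ((H.index_map_of_bijective (f := e.toMonoidHom) e.bijective).trans hH) ⟨x, hx, rfl⟩ (by rw [← map_pow, h4, map_one])
    (fun h => h2 (e.injective (by rw [map_mul, h, map_one])))

end CfsgLib.Spor.JankoFourPentad
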