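import Cfsg.Agent.Lib.Spor.JankoFourPentad.Plane
import Cfsg.Agent.Lib.Spor.JankoFourPentad.FiveData
import Cfsg.Agent.Lib.Spor.JankoFourPentad.PermFive

/-!
The factor isomorphic to the symmetric group of degree five of the centraliser of the element of
order seven centralises the subspace, which is the core of the centraliser of an element of order
five.
-/

set_option autoImplicit false
set_option maxRecDepth 100000
set_option linter.unusedSectionVars false

namespace CfsgLib.Spor.JankoFourPentad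

open Cfsg CfsgLib.Spor CfsgLib.Spor.JankoFourCentral CfsgLib.Spor.JankoFourSeven
open scoped Pointwise

universe u v

variable {G : Type u} [Group G] [Finite G]

namespace FiveData

variable {Q J E : Subgroup G} (h : FiveData Q J E)
include h

theorem le_cent : E ≤ Subgroup.centralizer (Q : Set G) := h.le.trans h.prod.2.1

theorem Q_inf_J : Q ⊓ J = ⊥ := h.prod.2.2.2.1

theorem decompose {c : G} (hc : c ∈ Subgroup.centralizer (Q : Set G)) :
    ∃ a ∈ Q, ∃ b ∈ J, c = a * b ∧ Commute a b := by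
  obtain ⟨h1, h2, h3, h4, h5⟩ := h.prod
  rw [← h5] at hc
  have hle : J ≤ Subgroup.normalizer (Q : Set G) :=
    h2.trans (Subgroup.centralizer_le_normalizer _)
  have h' : c ∈ (↑(Q ⊔ J) : Set G) := hc
  rw [Subgroup.coe_mul_of_right_le_normalizer_left _ _ hle] at h'
  obtain ⟨a, ha, b, hb, e⟩ := h'
  exact ⟨a, ha, b, hb, e.symm, h3 a ha b hb⟩

theorem pow_J {b : G} (hb : b ∈ J) : b ^ 1344 = 1 := by
  have h' : (⟨b, hb⟩ : J) ^ Nat.card J = 1 := pow_card_eq_one'
  rw [h.cardJ] at h'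
  exact congrArg Subtype.val h'

theorem mem_J {c : G} (hc : c ∈ Subgroup.centralizer (Q : Set G)) (hpow : c ^ 1344 = 1) : c ∈ J := by
  obtain ⟨a, ha, b, hb, rfl, hab⟩ := h.decompose hc
  rw [hab.mul_pow, h.pow_J hb, mul_one] at hpow
  have h5 : a ^ 5 = 1 := by
    have h' : (⟨a, ha⟩ : Q) ^ Nat.card Q = 1 := pow_card_eq_one'
    rw [h.cardQ] at h'
    exact congrArg Subtype.val h'
  have : a = 1 := by
    rw [← orderOf_eq_one_iff]
    exact Nat.dvd_one.1 (Nat.dvd_gcd (orderOf_dvd_of_pow_eq_one hpow)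
      (orderOf_dvd_of_pow_eq_one h5))
  rwa [this, one_mul]

theorem norm_cent {n : G} (hn : n ∈ Subgroup.normalizer (Q : Set G)) :
    ∀ c ∈ Subgroup.centralizer (Q : Set G), n * c * n⁻¹ ∈ Subgroup.centralizer (Q : Set G) := by
  intro c hc
  refine Subgroup.mem_centralizer_iff.2 fun q hq => ?_
  have h' := Subgroup.mem_centralizer_iff.1 hc _ ((Subgroup.mem_normalizer_iff''.1 hn q).1 hq)
  calc q * (n * c * n⁻¹) = n * (n⁻¹ * q * n * c) * n⁻¹ := by group
    _ = n * (c * (n⁻¹ * q * n)) * n⁻¹ := by rw [h']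
    _ = _ := by group

theorem norm_J {n : G} (hn : n ∈ Subgroup.normalizer (Q : Set G)) :
    ∀ b ∈ J, n * b * n⁻¹ ∈ J := fun b hb =>
  h.mem_J (h.norm_cent hn b (h.prod.2.1 hb)) (by rw [conj_pow, h.pow_J hb, mul_one, mul_inv_cancel])

/-- the normaliser of the subgroup of order five normalises the core -/
theorem norm_E {n : G} (hn : n ∈ Subgroup.normalizer (Q : Set G)) :
    n ∈ Subgroup.normalizer (E : Set G) := by
  haveI : Fact (Nat.Prime 2) := ⟨Nat.prime_two⟩
  let E' := E.map (MulAut.conj n).toMonoidHom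
  have hE'J : E' ≤ J := by
    rintro _ ⟨e, he, rfl⟩; exact h.norm_J hn e (h.le he)
  have hJE' : J ≤ Subgroup.normalizer (E' : Set G) := fun j hj => mem_normalizer_of_conj_le (by
    rintro _ ⟨e, he, rfl⟩
    have hj' : n⁻¹ * j * n ∈ J := by
      have := h.norm_J (inv_mem hn) j hj
      rwa [inv_inv] at this
    refine ⟨(n⁻¹ * j * n) * e * (n⁻¹ * j * n)⁻¹,
      (Subgroup.mem_normalizer_iff.1 (h.norm hj') e).1 he, ?_⟩
    show n * (n⁻¹ * j * n * e * (n⁻¹ * j * n)⁻¹) * n⁻¹ = j * (n * e * n⁻¹) * j⁻¹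
    group)
  have hM : J ≤ Subgroup.normalizer ((E ⊔ E' : Subgroup G) : Set G) := fun j hj =>
    mem_normalizer_of_conj_le (fun x hx => by
      have key : E ⊔ E' ≤ (E ⊔ E').comap (MulAut.conj j).toMonoidHom := sup_le
        (fun e he => Subgroup.mem_sup_left ((Subgroup.mem_normalizer_iff.1 (h.norm hj) e).1 he))
        (fun e he => Subgroup.mem_sup_right ((Subgroup.mem_normalizer_iff.1 (hJE' hj) e).1 he))
      exact key hx)
  rcases h.simple _ (sup_le h.le hE'J) le_sup_left hM with e | e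
  · refine mem_normalizer_of_conj_le fun x hx => ?_
    rw [← e]
    exact Subgroup.mem_sup_right ⟨x, hx, rfl⟩
  · exfalso
    have hE2 : IsPGroup 2 E := IsPGroup.of_card (n := 3) (by rw [h.cardE]; rfl)
    obtain ⟨k, hk⟩ := IsPGroup.iff_card.1
      (hE2.to_sup_of_normal_left' (hE2.map (MulAut.conj n).toMonoidHom)
        (hE'J.trans h.norm))
    rw [e, h.cardJ] at hk
    have h7 : 7 ∣ 2 ^ k := hk ▸ (by norm_num)
    exact absurd (Nat.Prime.dvd_of_dvd_pow (by norm_num) h7) (by norm_num)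

end FiveData

variable {z : G} {A : Type v} [AddCommGroup A] {D : Eleven z A}

/-- what is needed from the centralisers of the elements of order seven and five -/
structure Setup (D : Eleven z A) (I Q J : Subgroup G) (q : G) : Prop where
  cardI : Nat.card I = 120
  isoI : Nonempty (I ≃* Equiv.Perm (Fin 5))
  commI : ∀ c, c ∈ I → c * Y D = Y D * c
  centI : I ≤ Subgroup.centralizer (Zs D : Set G)
  qI : q ∈ I
  Qq : Q = Subgroup.zpowers q
  data : FiveData Q J (Zs D)
  Y_mem : Y D ∈ J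
  x_norm : x4 D ∈ Subgroup.normalizer (Q : Set G)
  x_cent : ¬ x4 D * x4 D * q = q * (x4 D * x4 D)
  x_mem : x4 D ∈ I

theorem pow_dvd_pow {M : Type*} [Monoid M] {a : M} {m n : ℕ} (h : a ^ m = 1) (hd : m ∣ n) :
    a ^ n = 1 := by
  obtain ⟨k, rfl⟩ := hd
  rw [pow_mul, h, one_pow]

theorem exists_setup (hS : Std D) (h5 : Five z) : ∃ I Q J q, Setup D I Q J q := by
  classical
  haveI : Fact (Nat.Prime 5) := ⟨by norm_num⟩
  obtain ⟨-, -, -, I, hI, ⟨e⟩, hcI, -, hmemI⟩ := seven_facts hS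
  have hx : x4 D ∈ I := hmemI _ (x4_Y D) (pow_dvd_pow (x4_four D) (by norm_num))
  have hk : k2 D ∈ I := hmemI _ (k2_Y D)
    (pow_dvd_pow (m := 2) (by rw [pow_two]; exact k2_sq D) (by norm_num))
  have hr : r3 D ∈ I := hmemI _ (r3_Y D) (pow_dvd_pow (r3_cube D) (by norm_num))
  obtain ⟨⟨q, hqI⟩, hq1, hq5, hrel⟩ := four_five e (x := ⟨x4 D, hx⟩)
    (Subtype.ext (x4_four D)) (fun h => x4_sq_ne D (congrArg Subtype.val h))
  have hqne : q ≠ 1 := fun h => hq1 (Subtype.ext h)
  have hqp : q ^ 5 = 1 := congrArg Subtype.val hq5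
  have hqo : orderOf q = 5 := orderOf_eq_prime hqp hqne
  obtain ⟨i, hi, hxi⟩ : ∃ i, (i = 2 ∨ i = 3) ∧ x4 D * q * (x4 D)⁻¹ = q ^ i := by
    rcases hrel with h | h
    · exact ⟨2, Or.inl rfl, mul_inv_eq_iff_eq_mul.2 (congrArg Subtype.val h)⟩
    · exact ⟨3, Or.inr rfl, mul_inv_eq_iff_eq_mul.2 (congrArg Subtype.val h)⟩
  let Q := Subgroup.zpowers q
  have hQ : Nat.card Q = 5 := by rw [Nat.card_zpowers, hqo]
  obtain ⟨-, hall⟩ := fiveData_of_card hS.hJ h5
  obtain ⟨J, E, hd⟩ := hall Q hQ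
  have hxQ : x4 D ∈ Subgroup.normalizer (Q : Set G) := mem_normalizer_of_conj_le fun a ha => by
    obtain ⟨k, rfl⟩ := Subgroup.mem_zpowers_iff.1 ha
    rw [← conj_zpow, hxi]
    exact zpow_mem (pow_mem (Subgroup.mem_zpowers q) i) k
  have hxx : ¬ x4 D * x4 D * q = q * (x4 D * x4 D) := by
    intro h
    have h2 : x4 D * x4 D * q * (x4 D * x4 D)⁻¹ = q ^ (i * i) := by
      calc x4 D * x4 D * q * (x4 D * x4 D)⁻¹
          = x4 D * (x4 D * q * (x4 D)⁻¹) * (x4 D)⁻¹ := by group
        _ = q ^ (i * i) := by rw [hxi, ← conj_pow, hxi, pow_mul]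
    rw [h, mul_inv_cancel_right] at h2
    have h3 : q ^ 1 = q ^ (i * i) := by rw [pow_one]; exact h2
    rw [pow_eq_pow_iff_modEq, hqo] at h3
    rcases hi with rfl | rfl <;> exact absurd h3 (by decide)
  have hqY : q * Y D = Y D * q := hcI q hqI
  have hYC : Y D ∈ Subgroup.centralizer (Q : Set G) := by
    refine Subgroup.mem_centralizer_iff.2 fun a ha => ?_
    obtain ⟨k, rfl⟩ := Subgroup.mem_zpowers_iff.1 ha
    exact (Commute.zpow_left (show Commute q (Y D) from hqY) k).eq
  have hYJ : Y D ∈ J := hd.mem_J hYC (pow_dvd_pow (Y_seven D) (by norm_num))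
  have hYE : Y D ∈ Subgroup.normalizer (E : Set G) := hd.norm hYJ
  have hxE : x4 D ∈ Subgroup.normalizer (E : Set G) := hd.norm_E hxQ
  have hcq : ∀ f ∈ E, f * q = q * f := fun f hf =>
    (Subgroup.mem_centralizer_iff.1 (hd.le_cent hf) q (Subgroup.mem_zpowers q)).symm
  have hfree : ∀ f ∈ E, f * Y D = Y D * f → f = 1 := by
    intro f hf hc
    have hfI : f ∈ I := hmemI f hc (pow_dvd_pow (hd.elem.2 f hf) (by norm_num))
    have hfQ : f ∈ Q := by
      have hc5 := card_comm_five e (q := ⟨q, hqI⟩) hq1 hq5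
      have hinj : Function.Injective fun a : Q => (⟨⟨a, Subgroup.zpowers_le.2 hqI a.2⟩, by
          obtain ⟨k, hk⟩ := Subgroup.mem_zpowers_iff.1 a.2
          exact Subtype.ext (by
            show (a : G) * q = q * a
            rw [← hk]; exact ((Commute.refl q).zpow_left k).eq)⟩ :
          {g : I // g * (⟨q, hqI⟩ : I) = ⟨q, hqI⟩ * g}) :=
        fun a b h => Subtype.ext (congrArg (fun w => ((w.1 : I) : G)) h)
      obtain ⟨a, ha⟩ := ((Nat.bijective_iff_injective_and_card _).2 ⟨hinj, by rw [hQ, hc5]⟩).2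
        ⟨⟨f, hfI⟩, Subtype.ext (hcq f hf)⟩
      rw [← show (a : G) = f from congrArg (fun w => ((w.1 : I) : G)) ha]
      exact a.2
    exact (Subgroup.eq_bot_iff_forall _).1 hd.Q_inf_J f ⟨hfQ, hd.le hf⟩
  obtain ⟨hEV, hEk⟩ := le_V hS hd.elem hd.cardE hYE hfree hxE
  have hEx := x4_centralizes hS hd.elem hd.cardE hYE hfree hxE
  -- the subgroup of `I` centralising the core is everything
  let H : Subgroup I := (Subgroup.centralizer (E : Set G)).subgroupOf I
  have hqH : (⟨q, hqI⟩ : I) ∈ H := Subgroup.mem_centralizer_iff.2 hcq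
  have hxH : (⟨x4 D, hx⟩ : I) ∈ H := Subgroup.mem_centralizer_iff.2 hEx
  have hkH : (⟨k2 D, hk⟩ : I) ∈ H := Subgroup.mem_centralizer_iff.2 hEk
  have hx4o : orderOf (x4 D) = 4 := by
    haveI : Fact (Nat.Prime 2) := ⟨Nat.prime_two⟩
    exact orderOf_eq_prime_pow (p := 2) (n := 1) (by rw [pow_one, pow_two]; exact x4_sq_ne D)
      (x4_four D)
  have h20 : 20 ∣ Nat.card H := by
    have h1 : 5 ∣ Nat.card H := by
      rw [← hqo, ← Subgroup.orderOf_mk q hqI, ← Subgroup.orderOf_mk (⟨q, hqI⟩ : I) hqH]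
      exact orderOf_dvd_natCard _
    have h2 : 4 ∣ Nat.card H := by
      rw [← hx4o, ← Subgroup.orderOf_mk (x4 D) hx, ← Subgroup.orderOf_mk (⟨x4 D, hx⟩ : I) hxH]
      exact orderOf_dvd_natCard _
    exact Nat.Coprime.mul_dvd_of_dvd_of_dvd (show Nat.Coprime 4 5 by decide) h2 h1
  have hkQ : k2 D ∉ Subgroup.normalizer (Q : Set G) := by
    intro hkn
    obtain ⟨l, hl⟩ := Subgroup.mem_zpowers_iff.1
      ((Subgroup.mem_normalizer_iff.1 hkn q).1 (Subgroup.mem_zpowers q))
    obtain ⟨j, hj⟩ : ∃ j : ℕ, q ^ j = k2 D * q * (k2 D)⁻¹ := by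
      rw [← hl]
      exact ((isOfFinOrder_of_finite q).mem_powers_iff_mem_zpowers).2
        (zpow_mem (Subgroup.mem_zpowers q) l)
    have hkk : k2 D * x4 D * k2 D * x4 D = 1 := by rw [x4_conj, inv_mul_cancel]
    have hconj : ∀ (w : G) (m : ℕ), w * q * w⁻¹ = q ^ m →
        ∀ (w' : G) (m' : ℕ), w' * q * w'⁻¹ = q ^ m' → (w * w') * q * (w * w')⁻¹ = q ^ (m * m') := by
      intro w m hw w' m' hw'
      calc w * w' * q * (w * w')⁻¹ = w * (w' * q * w'⁻¹) * w⁻¹ := by group
        _ = q ^ (m * m') := by rw [hw', ← conj_pow, hw, pow_mul]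
    have h1 := hconj _ _ (hconj _ _ (hconj _ _ hj.symm _ _ hxi) _ _ hj.symm) _ _ hxi
    rw [hkk, one_mul, inv_one, mul_one] at h1
    have h4 : q ^ 1 = q ^ (j * i * j * i) := by rw [pow_one]; exact h1
    have h2 := hconj _ _ hj.symm _ _ hj.symm
    rw [k2_sq, one_mul, inv_one, mul_one] at h2
    have h5' : q ^ 1 = q ^ (j * j) := by rw [pow_one]; exact h2
    rw [pow_eq_pow_iff_modEq, hqo, Nat.ModEq] at h4 h5'
    have e4 : j * i * j * i = j * j * (i * i) := by ring
    rw [e4, Nat.mul_mod, ← h5'] at h4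
    rcases hi with rfl | rfl <;> norm_num at h4
  have hnotsmall : ¬ (Nat.card H = 20 ∨ Nat.card H = 40) := by
    intro hcard
    refine hkQ ?_
    let qH : H := ⟨⟨q, hqI⟩, hqH⟩
    have hqHo : Nat.card (Subgroup.zpowers qH) = 5 := by
      rw [Nat.card_zpowers]
      exact (Subgroup.orderOf_mk _ _).trans ((Subgroup.orderOf_mk _ _).trans hqo)
    have hf : (Nat.card H).factorization 5 = 1 := by
      rcases hcard with h | h <;> rw [h]
      · rw [show (20 : ℕ) = 5 * 4 by norm_num, Nat.factorization_mul (by norm_num) (by norm_num)]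
        simp [Nat.Prime.factorization_self, Nat.factorization_eq_zero_of_not_dvd,
          show Nat.Prime 5 by norm_num, show ¬ 5 ∣ 4 by norm_num]
      · rw [show (40 : ℕ) = 5 * 8 by norm_num, Nat.factorization_mul (by norm_num) (by norm_num)]
        simp [Nat.Prime.factorization_self, Nat.factorization_eq_zero_of_not_dvd,
          show Nat.Prime 5 by norm_num, show ¬ 5 ∣ 8 by norm_num]
    let P : Sylow 5 H := Sylow.ofCard (Subgroup.zpowers qH) (by rw [hqHo, hf, pow_one])
    have hone : Nat.card (Sylow 5 H) = 1 := by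
      have hd' := P.card_dvd_index
      have hm := card_sylow_modEq_one 5 H
      have hidx : P.index = Nat.card H / 5 := by
        rw [show (P : Subgroup H) = Subgroup.zpowers qH from Sylow.coe_ofCard _ _]
        have := (Subgroup.zpowers qH).card_mul_index
        rw [hqHo] at this
        omega
      rw [hidx] at hd'
      have hb : Nat.card (Sylow 5 H) ≤ 8 := by
        rcases hcard with h | h <;> rw [h] at hd' <;>
          exact (Nat.le_of_dvd (by norm_num) hd').trans (by norm_num)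
      rw [Nat.ModEq] at hm
      rcases hcard with h | h <;> rw [h] at hd' <;> norm_num at hd' <;>
        interval_cases hn : Nat.card (Sylow 5 H) <;> norm_num at *
    haveI : Subsingleton (Sylow 5 H) := (Nat.card_eq_one_iff_unique.1 hone).1
    haveI hn : (P : Subgroup H).Normal := Sylow.normal_of_subsingleton P
    refine mem_normalizer_of_conj_le fun a ha => ?_
    obtain ⟨l, rfl⟩ := Subgroup.mem_zpowers_iff.1 ha
    have h := hn.conj_mem (qH ^ l) (by
      rw [show (P : Subgroup H) = Subgroup.zpowers qH from Sylow.coe_ofCard _ _]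
      exact zpow_mem (Subgroup.mem_zpowers qH) l) ⟨⟨k2 D, hk⟩, hkH⟩
    rw [show (P : Subgroup H) = Subgroup.zpowers qH from Sylow.coe_ofCard _ _] at h
    obtain ⟨m, hm⟩ := Subgroup.mem_zpowers_iff.1 h
    refine Subgroup.mem_zpowers_iff.2 ⟨m, ?_⟩
    have := congrArg (fun w : H => ((w : I) : G)) hm
    simp only [SubgroupClass.coe_zpow, Subgroup.coe_mul, InvMemClass.coe_inv, qH] at this
    exact this
  have hH : H = ⊤ := by
    have hdiv := Subgroup.card_subgroup_dvd_card H
    rw [hI] at hdiv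
    obtain ⟨m, hm⟩ := h20
    have hm' : m ∈ Nat.divisors 6 := by
      refine Nat.mem_divisors.2 ⟨?_, by norm_num⟩
      rw [hm, show (120 : ℕ) = 20 * 6 by norm_num] at hdiv
      exact Nat.dvd_of_mul_dvd_mul_left (by norm_num) hdiv
    rw [show Nat.divisors 6 = {1, 2, 3, 6} by decide] at hm'
    simp only [Finset.mem_insert, Finset.mem_singleton] at hm'
    rcases hm' with rfl | rfl | rfl | rfl
    · exact absurd (Or.inl hm) hnotsmall
    · exact absurd (Or.inr (by rw [hm])) hnotsmall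
    · exfalso
      refine index_two e ?_ hxH (Subtype.ext (x4_four D))
        (fun h => x4_sq_ne D (congrArg Subtype.val h))
      have := H.card_mul_index
      rw [hI, hm] at this
      omega
    · exact Subgroup.eq_top_of_card_eq _ (by rw [hm, hI])
  have hIE : ∀ c ∈ I, ∀ f ∈ E, f * c = c * f := fun c hc f hf =>
    Subgroup.mem_centralizer_iff.1 (show (⟨c, hc⟩ : I) ∈ H from hH ▸ Subgroup.mem_top _) f hf
  obtain rfl := eq_Zs hS hd.elem hd.cardE hYE hfree hxE (fun f hf => hIE _ hr f hf)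
  exact ⟨I, Q, J, q, hI, ⟨e⟩, hcI,
    fun c hc => Subgroup.mem_centralizer_iff.2 fun f hf => hIE c hc f hf, hqI, rfl, hd, hYJ, hxQ,
    hxx, hx⟩

end CfsgLib.Spor.JankoFourPentad
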