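import Cfsg.Agent.Lib.Spor.JankoFourCentral.Checks
import Cfsg.Agent.Lib.Spor.JankoFourPentad.Data
import Cfsg.Agent.Lib.Spor.Transit

/-!
Kernel checks for the 2-local subgroup of a trio in groups of Janko-four type.
-/

set_option autoImplicit false
set_option maxRecDepth 100000

namespace CfsgLib.Spor.JankoFourPentad

open CfsgLib.Spor CfsgLib.Spor.JankoFourCentral

/-- the identity -/
def eP : ℕ := packL (List.range 24)

/-- membership of a mask in a list modulo the code -/
def memC (l : List ℕ) (a : ℕ) : Bool := l.any fun b => inCode (Nat.xor a b)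

/-- a mask fixed modulo the code -/
def fixC (g a : ℕ) : Bool := inCode (Nat.xor a (actP g a))

/-- an even mask -/
def evB (m : ℕ) : Bool := Nat.blt m 16777216 && Nat.beq (pop m % 2) 0

/-- a power of the element of order seven -/
def yEl (k : ℕ) : ℕ := yPows.getD k 0

/-- the masks of the three-dimensional subspace -/
def zList : List ℕ := spanList zGens

/-- generators of the vector part -/
def vMasks : List ℕ := vGens.map fun p => actP (yEl p.1) p.2

/-- masks of the vector part -/
def v9List : List ℕ := spanList vMasks

/-- generators of the permutation part -/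
def uMasks : List ℕ := uGens.map fun p => p.2.2

/-- all products of subfamilies -/
def uSpan : List ℕ → List ℕ
  | [] => [eP]
  | b :: bs => uSpan bs ++ (uSpan bs).map (compP b)

/-- the permutation part -/
def uList : List ℕ := uSpan uMasks

/-- translations of the first sextet fixing the subspace -/
def tList : List ℕ := sexInvol.filter fun t => zGens.all fun z => fixC t z

/-- the elements of the complement -/
def wList' : List ℕ := wTbl.map fun e => e.1

/-- the listed elements are in `M24` -/
theorem m24_check :
    (isM24P yP && isM24P sP && isM24P rhoP && isM24P w0P && isM24P y2P && isM24P hP) = true ∧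
    (uMasks.all isM24P) = true ∧ (wList'.all isM24P) = true := by
  decide +kernel

theorem ev_check :
    zGens.all evB = true ∧ vMasks.all evB = true ∧ (vGens.all fun p => evB p.2) = true ∧
    cBasis.all evB = true := by
  decide +kernel

theorem pow_check :
    yPows.length = 7 ∧ (Nat.beq (yEl 0) eP) = true ∧ Nat.beq (yEl 1) yP = true ∧
    ((List.range 6).all fun k => Nat.beq (compP yP (yEl k)) (yEl (k + 1))) = true ∧
    Nat.beq (compP yP (yEl 6)) eP = true ∧ Nat.beq yP eP = false := by
  decide +kernel

theorem point_check :
    pI < 24 ∧ qI < 24 ∧ rI < 24 ∧ pI ≠ qI ∧ pI ≠ rI ∧ qI ≠ rI ∧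
    ((List.range 24).all fun i => Nat.beq (getP yP i) i == (Nat.beq i pI || Nat.beq i qI || Nat.beq i rI))
      = true ∧
    getP sP pI = qI ∧ getP sP qI = pI ∧ getP sP rI = rI ∧
    getP rhoP pI = qI ∧ getP rhoP qI = rI ∧ getP rhoP rI = pI := by
  decide +kernel

theorem rel_check :
    Nat.beq (compP sP sP) eP = true ∧ Nat.beq (compP rhoP (compP rhoP rhoP)) eP = true ∧
    Nat.beq (compP sP yP) (compP yP sP) = true ∧ Nat.beq (compP rhoP yP) (compP yP rhoP) = true ∧
    Nat.beq (compP w0P yP) (compP y2P w0P) = true ∧
    Nat.beq (compP hP yP) (compP (compP yP yP) hP) = true ∧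
    Nat.beq (compP hP (compP hP hP)) eP = true := by
  decide +kernel

theorem z_check :
    (zList.all fun a => fixC sP a && fixC rhoP a) = true ∧
    (zGens.all fun a => memC zList (actP yP a) && memC zList (actP w0P a) && memC zList (actP hP a))
      = true ∧
    (uMasks.all fun u => zGens.all fun a => fixC u a) = true ∧
    ((List.range 8).all fun i => (List.range 8).all fun j =>
      Nat.beq i j || !(inCode (Nat.xor (zList.getD i 0) (zList.getD j 0)))) = true := by
  decide +kernel

theorem z_orbit_check :
    (zList.all fun a => inCode a || (List.range 7).any fun k => inCode (Nat.xor a (actP (yEl k) 15)))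
      = true := by
  decide +kernel

theorem fix_check :
    (vList.all fun a => !(fixC sP a && fixC rhoP a) || memC zList a) = true := by
  decide +kernel

theorem v9_check :
    (vGens.all fun p => memC wList p.2 && Nat.blt p.1 7) = true ∧
    (wMasks.all (memC v9List)) = true ∧
    (vMasks.all fun m => memC v9List (actP yP m)) = true ∧
    (zGens.all (memC v9List)) = true := by
  decide +kernel

theorem v9_index :
    ((List.range 512).all fun i => Nat.beq i 0 || !(inCode (v9List.getD i 0))) = true := by
  decide +kernel

theorem u_check :
    (uGens.all fun p => Nat.blt p.1 7 && tList.any (Nat.beq p.2.1) &&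
      Nat.beq (compP (yEl p.1) p.2.1) (compP p.2.2 (yEl p.1))) = true ∧
    (uMasks.all fun a => Nat.beq (compP a a) eP) = true ∧
    (uMasks.all fun a => uMasks.all fun b => Nat.beq (compP a b) (compP b a)) = true ∧
    (tList.all fun t => uList.any (Nat.beq (compP t eP))) = true ∧
    (uMasks.all fun a => uList.any (Nat.beq (compP (compP yP a) (yEl 6)))) = true ∧
    uList.Nodup := by
  decide +kernel

theorem comm_check :
    (uMasks.all fun u => vMasks.all fun m => memC zList (Nat.xor m (actP u m))) = true ∧
    (zGens.all fun z => uMasks.any fun u => vMasks.any fun m =>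
      inCode (Nat.xor z (Nat.xor m (actP u m)))) = true := by
  decide +kernel

theorem centre_check :
    (v9List.all fun w => !(uMasks.all fun u => fixC u w) || memC zList w) = true ∧
    (uList.all fun u => !(vMasks.all fun m => fixC u m) || Nat.beq u eP) = true := by
  decide +kernel

theorem y_free_check :
    (v9List.all fun w => !fixC yP w || inCode w) = true ∧
    (uList.all fun u => !Nat.beq (compP u yP) (compP yP u) || Nat.beq u eP) = true := by
  decide +kernel

theorem lift_check :
    (evBasis.all fun m => memC (spanList cBasis) (Nat.xor m (actP sP m))) = true ∧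
    ((List.range 24).all fun j => Nat.beq j rI || !Nat.beq (getP sP j) j ||
      !(memC (spanList cBasis) (Nat.xor (2 ^ rI) (2 ^ j)))) = true := by
  decide +kernel

theorem w_check :
    wTbl.length = 168 ∧ wList'.Nodup ∧ Nat.beq (wList'.getD 0 0) eP = true ∧
    ((List.range 168).all fun i => Nat.beq i 0 ||
      let e := wTbl.getD i (0, 0, 0)
      Nat.blt e.2.1 i && Nat.beq (compP (wList'.getD e.2.1 0) (bif Nat.beq e.2.2 0 then yP else y2P))
        e.1) = true ∧
    (wList'.all fun a => wList'.any (Nat.beq (compP a yP)) && wList'.any (Nat.beq (compP a y2P)))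
      = true ∧
    (wList'.all fun a => Nat.beq a eP || zGens.any fun z => !fixC a z) = true ∧
    (wList'.any (Nat.beq (compP hP eP))) = true := by
  decide +kernel

theorem span_check :
    v9List.Nodup ∧ zList.length = 8 ∧ v9List.length = 512 ∧ uList.length = 64 ∧
    (uMasks.all fun a => uList.all fun u => uList.any (Nat.beq (compP a u))) = true := by
  decide +kernel

end CfsgLib.Spor.JankoFourPentad
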