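import Cfsg.Agent.Lib.Spor.JankoFourPentad.Vec
import Cfsg.Agent.Lib.PGroups.Basic

/-!
The subgroup of order `2^15` is the join of the intersections of the seven extraspecial 2-cores with
the centraliser of the three-dimensional subspace, so both have the same normaliser; it is special
with that subspace as centre.
-/

set_option autoImplicit false
set_option maxRecDepth 100000
set_option linter.unusedSectionVars false

namespace CfsgLib.Spor.JankoFourPentad

open Cfsg CfsgLib.Spor CfsgLib.Spor.JankoFourCentral CfsgLib.Base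
open scoped Pointwise symmDiff commutatorElement

theorem map_twoCore {G : Type*} [Group G] (g v : G) :
    (twoCoreOfCentralizer v).map (MulAut.conj g).toMonoidHom =
      twoCoreOfCentralizer (g * v * g⁻¹) := by
  have hC : (Subgroup.centralizer ({v} : Set G)).map (MulAut.conj g).toMonoidHom =
      Subgroup.centralizer ({g * v * g⁻¹} : Set G) := by
    ext x
    rw [Subgroup.mem_map_equiv, MulAut.conj_symm_apply, Subgroup.mem_centralizer_singleton_iff,
      Subgroup.mem_centralizer_singleton_iff]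
    constructor
    · intro h
      calc x * (g * v * g⁻¹) = g * ((g⁻¹ * x * g) * v) * g⁻¹ := by group
        _ = g * (v * (g⁻¹ * x * g)) * g⁻¹ := by rw [h]
        _ = _ := by group
    · intro h
      calc g⁻¹ * x * g * v = g⁻¹ * (x * (g * v * g⁻¹)) * g := by group
        _ = g⁻¹ * ((g * v * g⁻¹) * x) * g := by rw [h]
        _ = _ := by group
  rw [twoCoreOfCentralizer, twoCoreOfCentralizer, ← hC]
  erw [← CfsgLib.Base.map_pCore_mulEquiv (p := 2)
    ((MulAut.conj g).subgroupMap (Subgroup.centralizer ({v} : Set G)))]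
  rw [Subgroup.map_map]
  erw [Subgroup.map_map]
  rfl

theorem mem_normalizer_of_conj_le {G : Type*} [Group G] [Finite G] {H : Subgroup G} {g : G}
    (h : ∀ x ∈ H, g * x * g⁻¹ ∈ H) : g ∈ Subgroup.normalizer (H : Set G) := by
  have hle : H.map (MulAut.conj g).toMonoidHom ≤ H := by
    rintro _ ⟨x, hx, rfl⟩; exact h x hx
  have heq : H.map (MulAut.conj g).toMonoidHom = H := Subgroup.eq_of_le_of_card_ge hle
    (le_of_eq (Subgroup.card_map_of_injective (MulAut.conj g).injective).symm)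
  refine Subgroup.mem_normalizer_iff.2 fun x => ⟨h x, fun hx => ?_⟩
  rw [← heq] at hx
  obtain ⟨y, hy, e⟩ := Subgroup.mem_map.1 hx
  rwa [show y = x from (MulAut.conj g).injective e] at hy

theorem repIn_yEl : ∀ {k : ℕ}, k < 7 → RepIn M24 (yEl k) ∧ el (yEl k) = el yP ^ k := by
  intro k
  induction k with
  | zero =>
    intro _
    rw [Nat.eq_of_beq_eq_true pow_check.2.1, el_eP]
    exact ⟨repIn_eP, (pow_zero _).symm⟩
  | succ k ih =>
    intro hk
    obtain ⟨h1, h2⟩ := ih (by omega)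
    have h := List.all_eq_true.1 pow_check.2.2.2.1 k (List.mem_range.2 (by omega))
    rw [← Nat.eq_of_beq_eq_true h, el_mul packs.1 h1, h2, ← pow_succ']
    exact ⟨packs.1.comp h1, rfl⟩

theorem el_y_seven : el yP ^ 7 = 1 := by
  have h := repIn_yEl (show 6 < 7 by norm_num)
  have e := Nat.eq_of_beq_eq_true pow_check.2.2.2.2.1
  rw [pow_succ', ← h.2, ← el_mul packs.1 h.1, e, el_eP]

theorem uGens_mem {u : ℕ} (hu : u ∈ uMasks) : ∃ k < 7, ∃ t ∈ tList, RepIn M24 t ∧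
    el u = el yP ^ k * el t * (el yP ^ k)⁻¹ := by
  obtain ⟨⟨k, t, u'⟩, hp, rfl⟩ := List.mem_map.1 hu
  have h := List.all_eq_true.1 u_check.1 _ hp
  simp only [Bool.and_eq_true, Nat.blt_eq] at h
  obtain ⟨⟨hk, ht⟩, he⟩ := h
  obtain ⟨t', ht', e⟩ := List.any_eq_true.1 ht
  obtain rfl := Nat.eq_of_beq_eq_true e
  obtain ⟨hyr, hye⟩ := repIn_yEl hk
  have htr : RepIn M24 t := by
    obtain ⟨x, hx, hr⟩ := sexInvol_rep (List.mem_filter.1 ht').1
    exact ⟨x, hx.1, hr⟩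
  refine ⟨k, hk, t, ht', htr, ?_⟩
  have e2 := congrArg el (Nat.eq_of_beq_eq_true he)
  rw [el_mul hyr htr, el_mul (repIn_uMask (List.mem_map.2 ⟨_, hp, rfl⟩)) hyr] at e2
  rw [← hye, eq_mul_inv_iff_mul_eq]
  exact e2.symm

theorem U_comm {σ τ : M24} (hσ : σ ∈ U) (hτ : τ ∈ U) : σ * τ = τ * σ := by
  have h : U ≤ Subgroup.centralizer (U : Set M24) := by
    rw [U, Subgroup.closure_le]
    rintro _ ⟨a, ha, rfl⟩
    rw [SetLike.mem_coe, Subgroup.centralizer_closure]
    refine Subgroup.mem_centralizer_iff.2 ?_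
    rintro _ ⟨b, hb, rfl⟩
    rw [← el_mul (repIn_uMask hb) (repIn_uMask ha), ← el_mul (repIn_uMask ha) (repIn_uMask hb),
      Nat.eq_of_beq_eq_true (List.all_eq_true.1 (List.all_eq_true.1 u_check.2.2.1 b hb) a ha)]
  exact Subgroup.mem_centralizer_iff.1 (h hτ) σ hσ

theorem U_sq {σ : M24} (hσ : σ ∈ U) : σ * σ = 1 := by
  induction hσ using Subgroup.closure_induction with
  | mem x hx => obtain ⟨a, ha, rfl⟩ := hx; exact el_uMask_sq ha
  | one => exact mul_one _
  | mul x y hx hy ihx ihy =>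
    have hc : Commute x y := U_comm hx hy
    rw [hc.symm.mul_mul_mul_comm, ihx, ihy, mul_one]
  | inv x _ ih => rw [← mul_inv_rev, ih, inv_one]

variable {G : Type*} [Group G] [Finite G] {z : G} {A : Type*} [AddCommGroup A] (D : Eleven z A)

/-- the element of order seven -/
noncomputable def Y : G := D.L (el yP)

theorem L_pow (σ : M24) (k : ℕ) : D.L (σ ^ k) = D.L σ ^ k := map_pow (Lhom D) σ k

theorem Y_pow (k : ℕ) : Y D ^ k = D.L (el yP ^ k) := (L_pow D _ k).symm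

theorem Y_seven : Y D ^ 7 = 1 := by rw [Y_pow, el_y_seven, D.L_one]

theorem V_comm {a b : G} (ha : a ∈ D.V) (hb : b ∈ D.V) : a * b = b * a := by
  obtain ⟨a', rfl⟩ := (D.mem_V a).1 ha
  obtain ⟨b', rfl⟩ := (D.mem_V b).1 hb
  exact D.ι_comm _ _

theorem V_sq {a : G} (ha : a ∈ D.V) : a * a = 1 := by
  obtain ⟨m, -, rfl⟩ := D.exists_vm ha
  exact D.vm_sq m

theorem V_inv {a : G} (ha : a ∈ D.V) : a⁻¹ = a := inv_eq_of_mul_eq_one_right (V_sq D ha)

theorem L_conj_mem (σ : M24) {a : G} (ha : a ∈ D.V) : D.L σ * a * (D.L σ)⁻¹ ∈ D.V :=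
  (Subgroup.mem_normalizer_iff.1 (D.L_mem σ) a).1 ha

theorem UG_fix_Zs {σ : M24} (hσ : σ ∈ U) {v : G} (hv : v ∈ Zs D) : D.L σ * v = v * D.L σ := by
  have h : U.map (Lhom D) ≤ Subgroup.centralizer (Zs D : Set G) := by
    rw [U, MonoidHom.map_closure, Subgroup.closure_le]
    rintro _ ⟨_, ⟨u, hu, rfl⟩, rfl⟩
    refine Subgroup.mem_centralizer_iff.2 ?_
    have hle : Zs D ≤ Subgroup.centralizer ({D.L (el u)} : Set G) := by
      refine vSub_le D fun a ha => Subgroup.mem_centralizer_singleton_iff.2 ?_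
      have h1 := (fixC_iff D (rep_el (repIn_uMask hu)) (ev_zGen ha)).1
        (List.all_eq_true.1 (List.all_eq_true.1 z_check.2.2.1 u hu) a ha)
      exact (mul_inv_eq_iff_eq_mul.1 h1).symm
    intro w hw
    exact Subgroup.mem_centralizer_singleton_iff.1 (hle hw)
  exact (Subgroup.mem_centralizer_iff.1 (h ⟨σ, hσ, rfl⟩) v hv).symm

/-- the displacement of a vector of the vector part by the permutation part lies in the subspace -/
theorem disp_mem_Zs {σ : M24} (hσ : σ ∈ U) :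
    ∀ v ∈ V9 D, v * (D.L σ * v * (D.L σ)⁻¹) ∈ Zs D := by
  induction hσ using Subgroup.closure_induction with
  | mem x hx =>
    obtain ⟨u, hu, rfl⟩ := hx
    rintro _ ⟨w, hw, rfl⟩
    refine spanList_induction
      (P := fun w => D.vm w * (D.L (el u) * D.vm w * (D.L (el u))⁻¹) ∈ Zs D)
      ?_ (fun a ha => comm_vm D hu ha) (fun a b ha hb => ?_) w hw
    · rw [D.vm_zero]; simp
    · rw [D.vm_xor]
      have e : D.vm a * D.vm b * (D.L (el u) * (D.vm a * D.vm b) * (D.L (el u))⁻¹) =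
          D.vm a * (D.vm b * (D.L (el u) * D.vm a * (D.L (el u))⁻¹)) *
            (D.L (el u) * D.vm b * (D.L (el u))⁻¹) := by group
      rw [e, V_comm D (D.vm_mem b) (L_conj_mem D _ (D.vm_mem a))]
      have := mul_mem ha hb
      simpa [mul_assoc] using this
  | one => intro v hv; rw [D.L_one]; simp [V_sq D (V9_le_V D hv)]
  | mul x y hx hy ihx ihy =>
    intro v hv
    have hv' := V9_le_V D hv
    set w := D.L y * v * (D.L y)⁻¹ with hw
    have hwV : w ∈ D.V := L_conj_mem D y hv'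
    have h1 := ihy v hv
    have h2 : D.L x * (v * w) * (D.L x)⁻¹ = v * w := by
      rw [UG_fix_Zs D hx h1, mul_inv_cancel_right]
    have h3 := ihx v hv
    have e : v * (D.L (x * y) * v * (D.L (x * y))⁻¹) =
        v * (D.L x * v * (D.L x)⁻¹)⁻¹ * (D.L x * (v * w) * (D.L x)⁻¹) := by
      rw [D.L_mul, hw]; group
    rw [e, h2, V_inv D (L_conj_mem D x hv')]
    exact mul_mem h3 h1
  | inv x hx ih =>
    rw [inv_eq_of_mul_eq_one_right (U_sq hx)]
    exact ih

theorem Zs_central {v g : G} (hv : v ∈ Zs D) (hg : g ∈ Lsub D) : g * v = v * g := by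
  obtain ⟨w, hw, u, hu, rfl⟩ := (mem_Lsub D).1 hg
  rw [mul_assoc, UG_fix_Zs D (mem_U_iff.2 ⟨u, hu, rfl⟩) hv, ← mul_assoc,
    V_comm D (V9_le_V D hw) (Zs_le_V D hv), mul_assoc]

/-- the subspace is the centre -/
theorem mem_Zs_iff {g : G} :
    g ∈ Zs D ↔ g ∈ Lsub D ∧ ∀ x ∈ Lsub D, g * x = x * g := by
  refine ⟨fun h => ⟨Zs_le_Lsub D h, fun x hx => (Zs_central D h hx).symm⟩, ?_⟩
  rintro ⟨hg, hc⟩
  obtain ⟨_, ⟨w, hw, rfl⟩, u, hu, rfl⟩ := (mem_Lsub D).1 hg
  have hr := rep_el (repIn_uList hu)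
  have hu1 : u = eP := by
    have h := List.all_eq_true.1 centre_check.2 u hu
    simp only [Bool.or_eq_true, Bool.not_eq_true', Nat.beq_eq] at h
    refine h.resolve_left fun h' => ?_
    rw [← Bool.not_eq_true] at h'
    refine h' (List.all_eq_true.2 fun m hm => (fixC_iff D hr (ev_vMask hm)).2 ?_)
    have h1 := hc _ (V9_le_Lsub D (vm_mem_vSub D hm))
    rw [mul_inv_eq_iff_eq_mul]
    refine mul_left_cancel (a := D.vm w) ?_
    rw [← mul_assoc, h1, ← mul_assoc, ← mul_assoc, D.vm_comm m w]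
  rw [hu1, el_eP, D.L_one, mul_one] at hc ⊢
  have h := List.all_eq_true.1 centre_check.1 w hw
  simp only [Bool.or_eq_true, Bool.not_eq_true'] at h
  rcases h with h | h
  · rw [← Bool.not_eq_true] at h
    refine absurd (List.all_eq_true.2 fun a ha => ?_) h
    refine (fixC_iff D (rep_el (repIn_uMask ha)) (ev_v9 hw)).2 ?_
    rw [mul_inv_eq_iff_eq_mul]
    exact (hc _ (UG_le_Lsub D ⟨el a, el_uMask_mem ha, rfl⟩)).symm
  · obtain ⟨b, hb, e⟩ := exists_memC D ev_check.1 (ev_v9 hw) h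
    exact ⟨b, hb, e.symm⟩

theorem isSpecial_Lsub :
    Cfsg.IsSpecial 2 ↥(Lsub D) ∧ Nat.card ↥(Subgroup.center ↥(Lsub D)) = 8 := by
  have hp : IsPGroup 2 ↥(Lsub D) := IsPGroup.of_card (card_Lsub D)
  have hcen : Subgroup.center ↥(Lsub D) = (Zs D).subgroupOf (Lsub D) := by
    ext x
    rw [Subgroup.mem_center_iff, Subgroup.mem_subgroupOf, mem_Zs_iff]
    exact ⟨fun h => ⟨x.2, fun y hy => (congrArg Subtype.val (h ⟨y, hy⟩)).symm⟩,
      fun h y => Subtype.ext (h.2 y y.2).symm⟩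
  have hcomm : commutator ↥(Lsub D) ≤ Subgroup.center ↥(Lsub D) := by
    rw [commutator_def, Subgroup.commutator_le]
    rintro ⟨g, hg⟩ - ⟨h, hh⟩ -
    rw [hcen, Subgroup.mem_subgroupOf]
    obtain ⟨v, hv, u, hu, rfl⟩ := (mem_Lsub D).1 hg
    obtain ⟨w, hw, t, ht, rfl⟩ := (mem_Lsub D).1 hh
    have hσ : el u ∈ U := mem_U_iff.2 ⟨u, hu, rfl⟩
    have hτ : el t ∈ U := mem_U_iff.2 ⟨t, ht, rfl⟩
    have hv' := V9_le_V D hv
    have hw' := V9_le_V D hw
    have hc : D.L (el u) * D.L (el t) = D.L (el t) * D.L (el u) := by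
      rw [← D.L_mul, ← D.L_mul, U_comm hσ hτ]
    set p := D.L (el u) * w * (D.L (el u))⁻¹ with hp'
    set q := D.L (el t) * v * (D.L (el t))⁻¹ with hq
    have hpV : p ∈ D.V := L_conj_mem D _ hw'
    have hqV : q ∈ D.V := L_conj_mem D _ hv'
    have e1 : v * D.L (el u) * (w * D.L (el t)) = v * p * (D.L (el u) * D.L (el t)) := by
      rw [hp']; group
    have e2 : w * D.L (el t) * (v * D.L (el u)) = w * q * (D.L (el t) * D.L (el u)) := by
      rw [hq]; group
    show v * D.L (el u) * (w * D.L (el t)) * (v * D.L (el u))⁻¹ * (w * D.L (el t))⁻¹ ∈ Zs D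
    rw [show v * D.L (el u) * (w * D.L (el t)) * (v * D.L (el u))⁻¹ * (w * D.L (el t))⁻¹ =
      v * D.L (el u) * (w * D.L (el t)) * (w * D.L (el t) * (v * D.L (el u)))⁻¹ by group, e1, e2,
      hc, mul_inv_rev, mul_assoc, mul_inv_cancel_left, V_inv D (mul_mem hw' hqV)]
    rw [show v * p * (w * q) = v * (p * w) * q by group, V_comm D hpV hw',
      show v * (w * p) * q = v * ((w * p) * q) by group, V_comm D (mul_mem hw' hpV) hqV,
      ← mul_assoc]
    exact mul_mem (disp_mem_Zs D hτ v hv) (disp_mem_Zs D hσ w hw)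
  have hpow : ∀ g : ↥(Lsub D), g ^ 2 ∈ Subgroup.center ↥(Lsub D) := by
    rintro ⟨g, hg⟩
    rw [hcen, Subgroup.mem_subgroupOf]
    obtain ⟨v, hv, u, hu, rfl⟩ := (mem_Lsub D).1 hg
    have hσ : el u ∈ U := mem_U_iff.2 ⟨u, hu, rfl⟩
    have e : (v * D.L (el u)) * (v * D.L (el u)) =
        v * (D.L (el u) * v * (D.L (el u))⁻¹) * (D.L (el u) * D.L (el u)) := by group
    show (v * D.L (el u)) ^ 2 ∈ Zs D
    rw [pow_two, e, ← D.L_mul, U_sq hσ, D.L_one, mul_one]
    exact disp_mem_Zs D hσ v hv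
  have hge : Subgroup.center ↥(Lsub D) ≤ commutator ↥(Lsub D) := by
    rw [hcen]
    have hle : Zs D ≤ (commutator ↥(Lsub D)).map (Lsub D).subtype := by
      refine vSub_le D fun a ha => ?_
      obtain ⟨u, hu, h⟩ := List.any_eq_true.1 (List.all_eq_true.1 comm_check.2 a ha)
      obtain ⟨m, hm, h⟩ := List.any_eq_true.1 h
      have hr := rep_el (repIn_uMask hu)
      have e : D.vm a = D.vm m * (D.L (el u) * D.vm m * (D.L (el u))⁻¹) := by
        rw [D.L_vm hr (ev_vMask hm), ← D.vm_xor]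
        exact D.vm_eq (ev_zGen ha) ((ev_vMask hm).xor (ev_of_rep hr (ev_vMask hm))) h
      refine Subgroup.mem_map.2 ⟨⁅(⟨D.vm m, V9_le_Lsub D (vm_mem_vSub D hm)⟩ : ↥(Lsub D)),
        ⟨D.L (el u), UG_le_Lsub D ⟨el u, el_uMask_mem hu, rfl⟩⟩⁆,
        Subgroup.commutator_mem_commutator (Subgroup.mem_top _) (Subgroup.mem_top _), ?_⟩
      show D.vm m * D.L (el u) * (D.vm m)⁻¹ * (D.L (el u))⁻¹ = D.vm a
      rw [e, D.vm_inv]; group
    intro x hx
    obtain ⟨y, hy, e⟩ := Subgroup.mem_map.1 (hle (Subgroup.mem_subgroupOf.1 hx))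
    rwa [Subtype.ext e] at hy
  refine ⟨⟨hp, le_antisymm (CfsgLib.PGroups.frattini_le_of_elementary_quotient hcomm hpow)
    (hge.trans (CfsgLib.PGroups.commutator_le_frattini hp)), le_antisymm hcomm hge⟩, ?_⟩
  rw [hcen, Nat.card_congr (Subgroup.subgroupOfEquivOfLe (Zs_le_Lsub D)).toEquiv, card_Zs]

theorem normalizer_Lsub_le :
    Subgroup.normalizer (Lsub D : Set G) ≤ Subgroup.normalizer (Zs D : Set G) := by
  intro g hg
  refine mem_normalizer_of_conj_le fun x hx => ?_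
  obtain ⟨hx1, hx2⟩ := (mem_Zs_iff D).1 hx
  refine (mem_Zs_iff D).2 ⟨(Subgroup.mem_normalizer_iff.1 hg x).1 hx1, fun y hy => ?_⟩
  have hy' := (Subgroup.mem_normalizer_iff''.1 hg y).1 hy
  have h := hx2 _ hy'
  calc g * x * g⁻¹ * y = g * (x * (g⁻¹ * y * g)) * g⁻¹ := by group
    _ = g * ((g⁻¹ * y * g) * x) * g⁻¹ := by rw [h]
    _ = _ := by group

theorem Y_norm : Y D ∈ Subgroup.normalizer (Zs D : Set G) ∧
    Y D ∈ Subgroup.normalizer (Lsub D : Set G) := by
  have hr := rep_el packs.1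
  refine ⟨mem_normalizer_of_conj_le (conj_vm_mem D hr ev_check.1 fun a ha => ?_),
    mem_normalizer_of_conj_le fun x hx => ?_⟩
  · have h := z_check.2.1
    simp only [List.all_eq_true, Bool.and_eq_true] at h
    obtain ⟨b, hb, e⟩ := exists_memC D ev_check.1 (ev_of_rep hr (ev_zGen ha)) (h a ha).1.1
    exact ⟨b, hb, e.symm⟩
  · obtain ⟨v, hv, u, hu, rfl⟩ := (mem_Lsub D).1 hx
    have h1 : Y D * v * (Y D)⁻¹ ∈ Lsub D := by
      refine conj_vm_mem D hr ev_check.2.1 (fun a ha => ?_) v hv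
      obtain ⟨b, hb, e⟩ := exists_memC D ev_check.2.1 (ev_of_rep hr (ev_vMask ha))
        (List.all_eq_true.1 v9_check.2.2.1 a ha)
      exact V9_le_Lsub D ⟨b, hb, e.symm⟩
    have h2 : Y D * D.L (el u) * (Y D)⁻¹ ∈ Lsub D := by
      have hmem : el u ∈ U := mem_U_iff.2 ⟨u, hu, rfl⟩
      have hle : U.map (MulAut.conj (el yP)).toMonoidHom ≤ U := by
        conv_lhs => rw [U, MonoidHom.map_closure]
        rw [Subgroup.closure_le]
        rintro _ ⟨_, ⟨a, ha, rfl⟩, rfl⟩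
        obtain ⟨b, hb, e⟩ := List.any_eq_true.1 (List.all_eq_true.1 u_check.2.2.2.2.1 a ha)
        refine mem_U_iff.2 ⟨b, hb, ?_⟩
        have hy6 := repIn_yEl (show 6 < 7 by norm_num)
        rw [← Nat.eq_of_beq_eq_true e, el_mul (packs.1.comp (repIn_uMask ha)) hy6.1,
          el_mul packs.1 (repIn_uMask ha), hy6.2]
        show el yP * el a * el yP ^ 6 = el yP * el a * (el yP)⁻¹
        rw [eq_inv_of_mul_eq_one_left (show el yP ^ 6 * el yP = 1 by rw [← pow_succ, el_y_seven])]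
      refine UG_le_Lsub D ⟨el yP * el u * (el yP)⁻¹, hle ⟨el u, hmem, rfl⟩, ?_⟩
      rw [Lhom_apply, D.L_mul, D.L_mul, D.L_inv]; rfl
    have := mul_mem h1 h2
    have e : Y D * (v * D.L (el u)) * (Y D)⁻¹ =
        Y D * v * (Y D)⁻¹ * (Y D * D.L (el u) * (Y D)⁻¹) := by group
    rwa [e]

theorem Zs_orbit {v : G} (hv : v ∈ Zs D) (h1 : v ≠ 1) :
    ∃ k < 7, Y D ^ k * D.z₀ * (Y D ^ k)⁻¹ = v := by
  obtain ⟨w, hw, rfl⟩ := hv
  have h := List.all_eq_true.1 z_orbit_check w hw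
  rw [Bool.or_eq_true] at h
  rcases h with h | h
  · exact absurd (D.vm_eq_one (ev_zList hw) h) h1
  · obtain ⟨k, hk, e⟩ := List.any_eq_true.1 h
    obtain ⟨hr, he⟩ := repIn_yEl (List.mem_range.1 hk)
    refine ⟨k, List.mem_range.1 hk, ?_⟩
    rw [Y_pow, ← he]
    show D.L (el (yEl k)) * D.vm 15 * (D.L (el (yEl k)))⁻¹ = D.vm w
    rw [D.L_vm (rep_el hr) Eleven.ev_fifteen]
    exact (D.vm_eq (ev_zList hw) (ev_of_rep (rep_el hr) Eleven.ev_fifteen) e).symm

theorem z₀_mem_Zs : D.z₀ ∈ Zs D := vm_mem_vSub D (List.mem_cons_self)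

theorem isConj_of_mem_Zs {v : G} (hv : v ∈ Zs D) (h1 : v ≠ 1) : IsConj z v := by
  obtain ⟨k, -, e⟩ := Zs_orbit D hv h1
  exact D.isConj_z₀.trans (isConj_iff.2 ⟨_, e⟩)

/-- the 2-core attached to a vector, cut by the centraliser of the subspace -/
def comp (v : G) : Subgroup G :=
  twoCoreOfCentralizer v ⊓ Subgroup.centralizer (Zs D : Set G)

theorem comp_conj_mem {g : G} (hg : g ∈ Subgroup.normalizer (Zs D : Set G)) {v x : G}
    (hx : x ∈ comp D v) : g * x * g⁻¹ ∈ comp D (g * v * g⁻¹) := by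
  refine ⟨?_, Subgroup.mem_centralizer_iff.2 fun w hw => ?_⟩
  · rw [← map_twoCore]; exact ⟨x, hx.1, rfl⟩
  · have hw' := (Subgroup.mem_normalizer_iff''.1 hg w).1 hw
    have h := Subgroup.mem_centralizer_iff.1 hx.2 _ hw'
    calc w * (g * x * g⁻¹) = g * ((g⁻¹ * w * g) * x) * g⁻¹ := by group
      _ = g * (x * (g⁻¹ * w * g)) * g⁻¹ := by rw [h]
      _ = _ := by group

theorem E₀_eq_twoCore : D.E₀ = twoCoreOfCentralizer D.z₀ := by
  rw [← D.g₀_conj, ← map_twoCore]; rfl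

theorem V_centralizes_Zs {v : G} (hv : v ∈ D.V) : v ∈ Subgroup.centralizer (Zs D : Set G) :=
  Subgroup.mem_centralizer_iff.2 fun _ hw => V_comm D (Zs_le_V D hw) hv

theorem wList_nodup : wList.Nodup ∧ wList.length = 128 ∧ sexInvol.Nodup ∧
    ((List.range 128).all fun i => Nat.beq i 0 || !(inCode (wList.getD i 0))) = true ∧
    (sexInvol.all fun t => Nat.beq (compP t eP) t) = true ∧ wMasks.all evB = true := by
  decide +kernel

theorem E₀_subset (hJ : Cfsg.IsOfJankoFourTypeAt z) {x : G} (hx : x ∈ D.E₀) :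
    ∃ w ∈ wList, ∃ t ∈ sexInvol, RepIn M24 t ∧ x = D.vm w * D.L (el t) := by
  classical
  have hz : orderOf z = 2 := hJ.choose_spec.1
  have hE := D.E₀_nonabelian hJ
  obtain ⟨hnd, hlen, hnd2, hidx, hnorm, hev⟩ := wList_nodup
  have hW : Nat.card (vSub D wMasks) = 128 := by
    rw [natCard_vSub D hev hnd (fun i hi h0 => ?_) (by decide +kernel)]
    · exact hlen
    · have := List.all_eq_true.1 hidx i (List.mem_range.2 (hlen ▸ hi))
      simp only [Bool.or_eq_true, Bool.not_eq_true', Nat.beq_eq] at this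
      exact this.resolve_left h0
  have hrT : ∀ t : ↥sexInvol.toFinset, RepIn M24 (t : ℕ) := fun t => by
    obtain ⟨y, hy, hr⟩ := sexInvol_rep (List.mem_toFinset.1 t.2)
    exact ⟨y, hy.1, hr⟩
  have hmem : ∀ p : vSub D wMasks × ↥sexInvol.toFinset, (p.1 : G) * D.L (el p.2) ∈ D.E₀ := by
    rintro ⟨⟨_, w, hw, rfl⟩, t⟩
    refine mul_mem (D.wList_mem hz hE w hw) ?_
    obtain ⟨j, hj, e⟩ := exists_index (List.mem_toFinset.1 t.2)
    exact D.tEl_mem hz hE hj (e.symm ▸ rep_el (hrT t))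
  let f : vSub D wMasks × ↥sexInvol.toFinset → D.E₀ := fun p => ⟨_, hmem p⟩
  have hf : Function.Injective f := by
    rintro ⟨v, t⟩ ⟨v', t'⟩ e
    have e' : (v : G) * D.L (el t) = v' * D.L (el t') := congrArg Subtype.val e
    have hσ := JankoFourSeven.eq_of_vL D (vSub_le_V D _ v.2) (vSub_le_V D _ v'.2) e'
    have ht : t = t' := by
      refine Subtype.ext ?_
      rw [← Nat.eq_of_beq_eq_true (List.all_eq_true.1 hnorm t (List.mem_toFinset.1 t.2)),
        ← Nat.eq_of_beq_eq_true (List.all_eq_true.1 hnorm t' (List.mem_toFinset.1 t'.2)),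
        compP, compP]
      congr 1
      refine List.map_congr_left fun i hi => ?_
      have hlt : getP eP i < 24 := by revert i; decide +kernel
      exact el_inj (hrT t) (hrT t') hσ hlt
    subst ht
    exact Prod.ext (Subtype.ext (mul_right_cancel e')) rfl
  have hcard : Nat.card (vSub D wMasks × ↥sexInvol.toFinset) = Nat.card D.E₀ := by
    rw [Nat.card_prod, hW, Nat.card_eq_finsetCard, List.toFinset_card_of_nodup hnd2,
      sexBase_facts.2.2.2.2.1, Eleven.E₀, Subgroup.card_map_of_injective (MulAut.conj _).injective,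
      hJ.choose_spec.2.2.1]
    norm_num
  obtain ⟨⟨⟨_, w, hw, rfl⟩, t⟩, e⟩ :=
    ((Nat.bijective_iff_injective_and_card f).2 ⟨hf, hcard⟩).2 ⟨x, hx⟩
  exact ⟨w, hw, t, List.mem_toFinset.1 t.2, hrT t, (congrArg Subtype.val e).symm⟩

theorem comp_z₀_le (hJ : Cfsg.IsOfJankoFourTypeAt z) : comp D D.z₀ ≤ Lsub D := by
  intro x hx
  obtain ⟨w, hw, t, ht, hr, rfl⟩ := E₀_subset D hJ (E₀_eq_twoCore D ▸ hx.1)
  have h1 : D.vm w ∈ Lsub D := by
    refine V9_le_Lsub D (vSub_le D (l := wMasks) (fun a ha => ?_) ⟨w, hw, rfl⟩)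
    obtain ⟨b, hb, e⟩ := exists_memC D ev_check.2.1 (Eleven.ev_wList (mem_spanList_self ha))
      (List.all_eq_true.1 v9_check.2.1 a ha)
    exact ⟨b, hb, e.symm⟩
  have h2 : D.L (el t) ∈ Subgroup.centralizer (Zs D : Set G) := by
    have := mul_mem (inv_mem (V_centralizes_Zs D (D.vm_mem w))) hx.2
    rwa [inv_mul_cancel_left] at this
  have htl : t ∈ tList := List.mem_filter.2 ⟨ht, List.all_eq_true.2 fun a ha =>
    (fixC_iff D (rep_el hr) (ev_zGen ha)).2 (by
      rw [mul_inv_eq_iff_eq_mul]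
      exact (Subgroup.mem_centralizer_iff.1 h2 _ (vm_mem_vSub D ha)).symm)⟩
  obtain ⟨u, hu, e⟩ := List.any_eq_true.1 (List.all_eq_true.1 u_check.2.2.2.1 t htl)
  have he : el u = el t := by
    rw [← Nat.eq_of_beq_eq_true e, el_mul hr repIn_eP, el_eP, mul_one]
  exact mul_mem h1 (UG_le_Lsub D ((mem_UG D).2 ⟨u, hu, by rw [he]⟩))

theorem pow_mem_norm (k : ℕ) : Y D ^ k ∈ Subgroup.normalizer (Zs D : Set G) :=
  pow_mem (Y_norm D).1 k

theorem Lsub_eq (hJ : Cfsg.IsOfJankoFourTypeAt z) :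
    Lsub D = ⨆ v ∈ {v : G | v ∈ Zs D ∧ v ≠ 1}, comp D v := by
  have hz : orderOf z = 2 := hJ.choose_spec.1
  have hE := D.E₀_nonabelian hJ
  have hz1 : D.z₀ ≠ 1 := fun h => by
    have h' := D.g₀_conj
    rw [h, conj_eq_one_iff] at h'
    rw [h', orderOf_one] at hz
    exact absurd hz (by norm_num)
  have hconj : ∀ k : ℕ, ∀ x ∈ comp D D.z₀,
      Y D ^ k * x * (Y D ^ k)⁻¹ ∈ ⨆ v ∈ {v : G | v ∈ Zs D ∧ v ≠ 1}, comp D v := fun k x hx => by
    have hv : Y D ^ k * D.z₀ * (Y D ^ k)⁻¹ ∈ {v : G | v ∈ Zs D ∧ v ≠ 1} :=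
      ⟨(Subgroup.mem_normalizer_iff.1 (pow_mem_norm D k) _).1 (z₀_mem_Zs D),
        fun h => hz1 (conj_eq_one_iff.1 h)⟩
    exact le_iSup₂ (f := fun v (_ : v ∈ {v : G | v ∈ Zs D ∧ v ≠ 1}) => comp D v) _ hv
      (comp_conj_mem D (pow_mem_norm D k) hx)
  refine le_antisymm (sup_le (vSub_le D fun a ha => ?_) ?_) (iSup₂_le fun v hv => ?_)
  · obtain ⟨⟨k, m⟩, hp, rfl⟩ := List.mem_map.1 ha
    have h := List.all_eq_true.1 v9_check.1 _ hp
    simp only [Bool.and_eq_true, Nat.blt_eq] at h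
    have hm : Ev m := by
      have h' := List.all_eq_true.1 ev_check.2.2.1 _ hp
      simp only [evB, Bool.and_eq_true, Nat.blt_eq, Nat.beq_eq] at h'
      exact ev_of_check h'.1 h'.2
    obtain ⟨hr, he⟩ := repIn_yEl h.2
    obtain ⟨b, hb, e⟩ := exists_memC D wList_nodup.2.2.2.2.2 hm h.1
    have := hconj k (D.vm m) ⟨E₀_eq_twoCore D ▸ e ▸ D.wList_mem hz hE b hb,
      V_centralizes_Zs D (D.vm_mem m)⟩
    rw [Y_pow, ← he, D.L_vm (rep_el hr) hm] at this
    exact this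
  · rw [UG, U, MonoidHom.map_closure, Subgroup.closure_le]
    rintro _ ⟨_, ⟨u, hu, rfl⟩, rfl⟩
    obtain ⟨k, hk, t, ht, hr, e⟩ := uGens_mem hu
    obtain ⟨ht1, ht2⟩ := List.mem_filter.1 ht
    obtain ⟨j, hj, rfl⟩ := exists_index ht1
    have hcz : D.L (el (tEl j)) ∈ Subgroup.centralizer (Zs D : Set G) := by
      have hle : Zs D ≤ Subgroup.centralizer ({D.L (el (tEl j))} : Set G) := by
        refine vSub_le D fun a ha => Subgroup.mem_centralizer_singleton_iff.2 ?_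
        exact (mul_inv_eq_iff_eq_mul.1 ((fixC_iff D (rep_el hr) (ev_zGen ha)).1
          (List.all_eq_true.1 ht2 a ha))).symm
      exact Subgroup.mem_centralizer_iff.2 fun w hw =>
        Subgroup.mem_centralizer_singleton_iff.1 (hle hw)
    have := hconj k _ ⟨E₀_eq_twoCore D ▸ D.tEl_mem hz hE hj (rep_el hr), hcz⟩
    rw [SetLike.mem_coe, Lhom_apply, e, D.L_mul, D.L_mul, D.L_inv, L_pow]
    exact this
  · obtain ⟨k, hk, rfl⟩ := Zs_orbit D hv.1 hv.2
    intro x hx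
    have h := comp_conj_mem D (inv_mem (pow_mem_norm D k)) hx
    rw [show (Y D ^ k)⁻¹ * (Y D ^ k * D.z₀ * (Y D ^ k)⁻¹) * (Y D ^ k)⁻¹⁻¹ = D.z₀ by group] at h
    have h2 := comp_z₀_le D hJ h
    have h3 := (Subgroup.mem_normalizer_iff.1 (pow_mem (Y_norm D).2 k) _).1 h2
    have e : Y D ^ k * ((Y D ^ k)⁻¹ * x * (Y D ^ k)⁻¹⁻¹) * (Y D ^ k)⁻¹ = x := by group
    rwa [e] at h3

/-- the subspace and the subgroup of order `2^15` have the same normaliser -/
theorem normalizer_eq (hJ : Cfsg.IsOfJankoFourTypeAt z) :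
    Subgroup.normalizer (Lsub D : Set G) = Subgroup.normalizer (Zs D : Set G) := by
  refine le_antisymm (normalizer_Lsub_le D) fun g hg => mem_normalizer_of_conj_le ?_
  have key : Lsub D ≤ (Lsub D).comap (MulAut.conj g).toMonoidHom := by
    conv_lhs => rw [Lsub_eq D hJ]
    refine iSup₂_le fun v hv x hx => ?_
    show g * x * g⁻¹ ∈ Lsub D
    rw [Lsub_eq D hJ]
    exact le_iSup₂ (f := fun v (_ : v ∈ {v : G | v ∈ Zs D ∧ v ≠ 1}) => comp D v) _
      (show g * v * g⁻¹ ∈ {v : G | v ∈ Zs D ∧ v ≠ 1} from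
        ⟨(Subgroup.mem_normalizer_iff.1 hg v).1 hv.1, fun h => hv.2 (conj_eq_one_iff.1 h)⟩)
      (comp_conj_mem D hg hx)
  exact fun x hx => key hx

end CfsgLib.Spor.JankoFourPentad
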