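import Cfsg.Agent.Lib.Spor.JankoFourPentad.Order

/-!
The 2-local subgroup of a trio in a group of Janko-four type: a special group of order `2^15` with
centre of order eight and normaliser extending it by the product of the symmetric group of degree
five and `L₃(2)`.
-/

set_option autoImplicit false
set_option maxRecDepth 100000
set_option linter.unusedSectionVars false

namespace CfsgLib.Spor.JankoFourPentad

open Cfsg CfsgLib.Spor CfsgLib.Spor.JankoFourCentral CfsgLib.Spor.JankoFourSeven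
open scoped Pointwise

universe u v

variable {G : Type u} [Group G] [Finite G] {z : G} {A : Type v} [AddCommGroup A] (D : Eleven z A)

/-- the action of the complement on the subspace -/
noncomputable def actW : ↥(WG D) →* MulAut (Zs D) :=
  (Zs D).normalizerMonoidHom.comp (Subgroup.inclusion (WG_le D))

theorem actW_injective : Function.Injective (actW D) := by
  refine (injective_iff_map_eq_one (actW D)).2 fun w hw => Subtype.ext ?_
  refine (Subgroup.eq_bot_iff_forall _).1 (WG_faithful D) _ ⟨w.2, ?_⟩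
  refine Subgroup.mem_centralizer_iff.2 fun a ha => ?_
  have h : (w : G) * a * (w : G)⁻¹ = a :=
    congrArg (fun f : MulAut (Zs D) => ((f ⟨a, ha⟩ : Zs D) : G)) hw
  exact (mul_inv_eq_iff_eq_mul.1 h).symm

theorem WG_facts : Nonempty (↥(WG D) ≃* Matrix.SpecialLinearGroup (Fin 3) (ZMod 2)) ∧
    Function.Surjective (actW D) := by
  haveI : Fact (Nat.Prime 2) := ⟨Nat.prime_two⟩
  letI : CommGroup (Zs D) := { (inferInstance : Group (Zs D)) with
    mul_comm := fun a b => Subtype.ext (V_comm D (Zs_le_V D a.2) (Zs_le_V D b.2)) }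
  obtain ⟨ψ, hψ⟩ := CfsgLib.Recog.exists_injective_mulAut_to_GL (A := Zs D) (p := 2) (e := 3)
    (fun x => Subtype.ext (by
      show (x : G) ^ 2 = 1
      rw [pow_two]; exact V_sq D (Zs_le_V D x.2)))
    (card_Zs D)
  obtain ⟨e⟩ := gl_equiv_sl
  let f : ↥(WG D) →* Matrix.SpecialLinearGroup (Fin 3) (ZMod 2) :=
    e.toMonoidHom.comp (ψ.comp (actW D))
  have hf : Function.Bijective f := (Nat.bijective_iff_injective_and_card f).2
    ⟨e.injective.comp (hψ.comp (actW_injective D)), by rw [card_WG, CfsgLib.Spor.Tv5.card_SL3]⟩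
  refine ⟨⟨MulEquiv.ofBijective f hf⟩, fun φ => ?_⟩
  obtain ⟨w, hw⟩ := hf.2 (e (ψ φ))
  exact ⟨w, hψ (e.injective hw)⟩

theorem hh_norm : D.L (el hP) ∈ Subgroup.normalizer (Zs D : Set G) := by
  have hr := rep_el packs.2.2.2.2.2
  refine mem_normalizer_of_conj_le (conj_vm_mem D hr ev_check.1 fun a ha => ?_)
  have h := z_check.2.1
  simp only [List.all_eq_true, Bool.and_eq_true] at h
  obtain ⟨b, hb, e⟩ := exists_memC D ev_check.1 (ev_of_rep hr (ev_zGen ha)) (h a ha).2
  exact ⟨b, hb, e.symm⟩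

variable {D} (hS : Std D) {I Q J : Subgroup G} {q : G} (hset : Setup D I Q J q)
include hS hset

theorem mem_cent_iff {c : G} :
    c ∈ Subgroup.centralizer (Zs D : Set G) ↔ ∃ l ∈ Lsub D, ∃ i ∈ I, c = l * i := by
  obtain ⟨heq, -, -⟩ := cent_eq hS hset
  constructor
  · intro hc
    rw [heq] at hc
    have hn : I ≤ Subgroup.normalizer (Lsub D : Set G) := by
      rw [normalizer_eq D hS.hJ]
      exact hset.centI.trans (Subgroup.centralizer_le_normalizer _)
    have h : c ∈ (↑(Lsub D ⊔ I) : Set G) := hc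
    rw [Subgroup.coe_mul_of_right_le_normalizer_left _ _ hn] at h
    obtain ⟨l, hl, i, hi, e⟩ := h
    exact ⟨l, hl, i, hi, e.symm⟩
  · rintro ⟨l, hl, i, hi, rfl⟩
    exact mul_mem (Lsub_le_cent D hl) (hset.centI hi)

/-- the complement acts trivially on the centraliser modulo the subgroup of order `2^15` -/
theorem WG_comm {w : G} (hw : w ∈ WG D) :
    ∀ c ∈ Subgroup.centralizer (Zs D : Set G), w * c * w⁻¹ * c⁻¹ ∈ Lsub D := by
  have hcn : ∀ g ∈ Subgroup.normalizer (Zs D : Set G), ∀ c ∈ Subgroup.centralizer (Zs D : Set G),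
      g * c * g⁻¹ ∈ Subgroup.centralizer (Zs D : Set G) := fun g hg c hc =>
    (Subgroup.mem_normalizer_iff.1 (cent_normalised D hg) c).1 hc
  have hY : ∀ c ∈ Subgroup.centralizer (Zs D : Set G), Y D * c * (Y D)⁻¹ * c⁻¹ ∈ Lsub D := by
    intro c hc
    obtain ⟨l, hl, i, hi, rfl⟩ := (mem_cent_iff hS hset).1 hc
    have h := hset.commI i hi
    have e : Y D * (l * i) * (Y D)⁻¹ * (l * i)⁻¹ = Y D * l * (Y D)⁻¹ * l⁻¹ := by
      have h' := (Commute.inv_right (show Commute i (Y D) from h)).eq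
      calc Y D * (l * i) * (Y D)⁻¹ * (l * i)⁻¹ = Y D * l * (i * (Y D)⁻¹) * i⁻¹ * l⁻¹ := by group
        _ = Y D * l * ((Y D)⁻¹ * i) * i⁻¹ * l⁻¹ := by rw [h']
        _ = _ := by group
    rw [e]
    exact mul_mem ((Subgroup.mem_normalizer_iff.1 (Y_norm D).2 l).1 hl) (inv_mem hl)
  obtain ⟨σ, hσ, rfl⟩ := Subgroup.mem_map.1 hw
  induction hσ using Subgroup.closure_induction with
  | mem x hx =>
    rcases hx with rfl | rfl
    · exact hY
    · intro c hc
      rw [Lhom_apply, L_y2]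
      set w := D.L (el w0P) with hw0
      have hc' : w⁻¹ * c * w ∈ Subgroup.centralizer (Zs D : Set G) := by
        have := hcn _ (inv_mem (w0_norm D)) c hc
        rwa [inv_inv] at this
      have h := hY _ hc'
      have hwL : w ∈ Subgroup.normalizer (Lsub D : Set G) := by
        rw [normalizer_eq D hS.hJ]; exact w0_norm D
      have := (Subgroup.mem_normalizer_iff.1 hwL _).1 h
      rwa [show w * Y D * w⁻¹ * c * (w * Y D * w⁻¹)⁻¹ * c⁻¹ =
        w * (Y D * (w⁻¹ * c * w) * (Y D)⁻¹ * (w⁻¹ * c * w)⁻¹) * w⁻¹ by group]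
  | one => intro c _; rw [map_one]; simp
  | mul x y hx hy ihx ihy =>
    intro c hc
    rw [map_mul]
    have hyN : Lhom D y ∈ Subgroup.normalizer (Zs D : Set G) := WG_le D ⟨y, hy, rfl⟩
    have h1 := ihx ⟨x, hx, rfl⟩ _ (hcn _ hyN c hc)
    have h2 := ihy ⟨y, hy, rfl⟩ c hc
    rw [show Lhom D x * Lhom D y * c * (Lhom D x * Lhom D y)⁻¹ * c⁻¹ =
      Lhom D x * (Lhom D y * c * (Lhom D y)⁻¹) * (Lhom D x)⁻¹ *
        (Lhom D y * c * (Lhom D y)⁻¹)⁻¹ * (Lhom D y * c * (Lhom D y)⁻¹ * c⁻¹) by group]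
    exact mul_mem h1 h2
  | inv x hx ih =>
    intro c hc
    rw [map_inv]
    have hxN : Lhom D x ∈ Subgroup.normalizer (Zs D : Set G) := WG_le D ⟨x, hx, rfl⟩
    have h1 := ih ⟨x, hx, rfl⟩ _ (hcn _ (inv_mem hxN) c hc)
    have h2 := inv_mem h1
    rwa [show (Lhom D x * ((Lhom D x)⁻¹ * c * (Lhom D x)⁻¹⁻¹) * (Lhom D x)⁻¹ *
      ((Lhom D x)⁻¹ * c * (Lhom D x)⁻¹⁻¹)⁻¹)⁻¹ =
      (Lhom D x)⁻¹ * c * (Lhom D x)⁻¹⁻¹ * c⁻¹ by group] at h2

theorem normalizer_card :
    Nat.card ↥(Subgroup.normalizer (Zs D : Set G)) = 2 ^ 15 * 20160 := by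
  obtain ⟨-, -, hc⟩ := cent_eq hS hset
  have hle : Subgroup.centralizer (Zs D : Set G) ⊔ WG D = Subgroup.normalizer (Zs D : Set G) := by
    refine le_antisymm (sup_le (Subgroup.centralizer_le_normalizer _) (WG_le D)) fun g hg => ?_
    obtain ⟨w, hw⟩ := (WG_facts D).2 ((Zs D).normalizerMonoidHom ⟨g, hg⟩)
    have hmem : (w : G)⁻¹ * g ∈ Subgroup.centralizer (Zs D : Set G) := by
      refine Subgroup.mem_centralizer_iff.2 fun a ha => ?_
      have h : (w : G) * a * (w : G)⁻¹ = g * a * g⁻¹ :=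
        congrArg (fun f : MulAut (Zs D) => ((f ⟨a, ha⟩ : Zs D) : G)) hw
      calc a * ((w : G)⁻¹ * g) = (w : G)⁻¹ * ((w : G) * a * (w : G)⁻¹) * g := by group
        _ = (w : G)⁻¹ * (g * a * g⁻¹) * g := by rw [h]
        _ = _ := by group
    have := mul_mem (Subgroup.mem_sup_right (S := Subgroup.centralizer (Zs D : Set G)) w.2)
      (Subgroup.mem_sup_left (T := WG D) hmem)
    rwa [mul_inv_cancel_left] at this
  rw [← hle, card_prod_sup (fun g hg => cent_normalised D (WG_le D hg))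
    (by rw [inf_comm]; exact WG_faithful D), hc, card_WG]
  norm_num

  
/-- the map onto the quotient by the subgroup of order `2^15` -/
theorem exists_quot [hN : ((Lsub D).subgroupOf (Subgroup.normalizer (Lsub D : Set G))).Normal] :
    ∃ f : ↥I × ↥(WG D) →*
        ↥(Subgroup.normalizer (Lsub D : Set G)) ⧸
          (Lsub D).subgroupOf (Subgroup.normalizer (Lsub D : Set G)),
      Function.Bijective f ∧ ∀ (i : I) (w : WG D) (m : ↥(Subgroup.normalizer (Lsub D : Set G))),
        (m : G) = (i : G) * w → f (i, w) = QuotientGroup.mk m := by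
  set M := Subgroup.normalizer (Lsub D : Set G) with hM
  have hMZ : M = Subgroup.normalizer (Zs D : Set G) := normalizer_eq D hS.hJ
  have hIM : ∀ i : I, (i : G) ∈ M := fun i =>
    hMZ ▸ Subgroup.centralizer_le_normalizer _ (hset.centI i.2)
  have hWM : ∀ w : WG D, (w : G) ∈ M := fun w => hMZ ▸ WG_le D w.2
  let mk : ↥M → ↥M ⧸ (Lsub D).subgroupOf M := QuotientGroup.mk
  let f : ↥I × ↥(WG D) →* ↥M ⧸ (Lsub D).subgroupOf M := MonoidHom.mk'
    (fun p => mk ⟨(p.1 : G) * p.2, mul_mem (hIM p.1) (hWM p.2)⟩)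
    (by
      rintro ⟨i, w⟩ ⟨j, x⟩
      show mk _ = mk _ * mk _
      rw [← QuotientGroup.mk_mul]
      refine QuotientGroup.eq.2 (Subgroup.mem_subgroupOf.2 ?_)
      show ((i : G) * j * (w * x))⁻¹ * ((i : G) * w * (j * x)) ∈ Lsub D
      have h := WG_comm hS hset (inv_mem w.2) _ (inv_mem (hset.centI j.2))
      have hx : (x : G) ∈ M := hWM x
      have h2 := (Subgroup.mem_normalizer_iff''.1 hx _).1 h
      rwa [show ((i : G) * j * (w * x))⁻¹ * ((i : G) * w * (j * x)) =
        (x : G)⁻¹ * ((w : G)⁻¹ * (j : G)⁻¹ * (w : G)⁻¹⁻¹ * (j : G)⁻¹⁻¹) * x by group])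
  have hf : ∀ (i : I) (w : WG D) (m : ↥M), (m : G) = (i : G) * w → f (i, w) = mk m :=
    fun i w m hm => congrArg mk (Subtype.ext hm.symm)
  have hinj : Function.Injective f := by
    refine (injective_iff_map_eq_one f).2 ?_
    rintro ⟨i, w⟩ h
    have h1 : (i : G) * w ∈ Lsub D := Subgroup.mem_subgroupOf.1 ((QuotientGroup.eq_one_iff _).1 h)
    have hwC : (w : G) ∈ Subgroup.centralizer (Zs D : Set G) := by
      have := mul_mem (inv_mem (hset.centI i.2)) (Lsub_le_cent D h1)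
      rwa [inv_mul_cancel_left] at this
    have hw1 : (w : G) = 1 := (Subgroup.eq_bot_iff_forall _).1 (WG_faithful D) _ ⟨w.2, hwC⟩
    rw [hw1, mul_one] at h1
    exact Prod.ext (Subtype.ext ((Subgroup.eq_bot_iff_forall _).1 (cent_eq hS hset).2.1 _ ⟨h1, i.2⟩))
      (Subtype.ext hw1)
  refine ⟨f, (Nat.bijective_iff_injective_and_card f).2 ⟨hinj, ?_⟩, hf⟩
  have h := ((Lsub D).subgroupOf M).card_eq_card_quotient_mul_card_subgroup
  rw [Nat.card_congr (Subgroup.subgroupOfEquivOfLe Subgroup.le_normalizer).toEquiv, card_Lsub] at h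
  rw [Nat.card_prod, hset.cardI, card_WG]
  have h' : Nat.card ↥M = 2 ^ 15 * 20160 := by rw [hMZ]; exact normalizer_card hS hset
  omega

theorem no_complement
    (K : Subgroup ↥(Subgroup.normalizer (Lsub D : Set G))) :
    ¬ ((Lsub D).subgroupOf (Subgroup.normalizer (Lsub D : Set G))).IsComplement' K := by
  intro hK
  haveI : Fact (Nat.Prime 5) := ⟨by norm_num⟩
  haveI hN : ((Lsub D).subgroupOf (Subgroup.normalizer (Lsub D : Set G))).Normal :=
    Subgroup.normal_subgroupOf_of_le_normalizer le_rfl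
  obtain ⟨f, hf, hfmk⟩ := exists_quot hS hset
  let π : ↥K →* ↥(Subgroup.normalizer (Lsub D : Set G)) ⧸ (Lsub D).subgroupOf (Subgroup.normalizer (Lsub D : Set G)) := (QuotientGroup.mk' _).comp K.subtype
  have hπi : Function.Injective π := by
    refine (injective_iff_map_eq_one π).2 fun k hk => Subtype.ext ?_
    have h1 : (k : ↥(Subgroup.normalizer (Lsub D : Set G))) ∈ (Lsub D).subgroupOf (Subgroup.normalizer (Lsub D : Set G)) := (QuotientGroup.eq_one_iff _).1 hk
    exact Subgroup.disjoint_def.1 hK.disjoint h1 k.2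
  have hπ : Function.Bijective π := (Nat.bijective_iff_injective_and_card π).2 ⟨hπi, by
    have h := hK.card_mul
    rw [((Lsub D).subgroupOf (Subgroup.normalizer (Lsub D : Set G))).card_eq_card_quotient_mul_card_subgroup, mul_comm] at h
    exact Nat.eq_of_mul_eq_mul_right Nat.card_pos h⟩
  let e : ↥I × ↥(WG D) ≃* ↥K :=
    (MulEquiv.ofBijective f hf).trans (MulEquiv.ofBijective π hπ).symm
  let j : ↥K →* G := (Subgroup.subtype (Subgroup.normalizer (Lsub D : Set G))).comp K.subtype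
  have hj : Function.Injective j := (Subgroup.normalizer (Lsub D : Set G)).subtype_injective.comp K.subtype_injective
  set a : G := j (e (⟨q, hset.qI⟩, 1)) with ha
  let φ : ↥(WG D) →* G := (j.comp e.toMonoidHom).comp (MonoidHom.inr _ _)
  have hφ : Function.Injective φ := (hj.comp e.injective).comp
    (fun x y h => congrArg Prod.snd h)
  have hlift : ∀ p : ↥I × ↥(WG D), ∃ l ∈ Lsub D, j (e p) = (p.1 : G) * p.2 * l := by
    rintro ⟨i, w⟩
    have hMZ : (Subgroup.normalizer (Lsub D : Set G)) = Subgroup.normalizer (Zs D : Set G) := normalizer_eq D hS.hJ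
    let m : ↥(Subgroup.normalizer (Lsub D : Set G)) := ⟨(i : G) * w, mul_mem
      (hMZ ▸ Subgroup.centralizer_le_normalizer _ (hset.centI i.2)) (hMZ ▸ WG_le D w.2)⟩
    have h1 : π (e (i, w)) = f (i, w) := (MulEquiv.ofBijective π hπ).apply_symm_apply _
    rw [hfmk i w m rfl] at h1
    have h2 := Subgroup.mem_subgroupOf.1 (QuotientGroup.eq.1 h1.symm)
    exact ⟨_, h2, by simp [j, m, mul_assoc]⟩
  have haC : a ∈ Subgroup.centralizer (Zs D : Set G) := by
    obtain ⟨l, hl, e'⟩ := hlift (⟨q, hset.qI⟩, 1)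
    rw [ha, e']
    exact mul_mem (mul_mem (hset.centI hset.qI) (one_mem _)) (Lsub_le_cent D hl)
  have hao : orderOf a = 5 := by
    rw [ha, orderOf_injective j hj, MulEquiv.orderOf_eq, Prod.orderOf, orderOf_one]
    rw [← Subgroup.orderOf_coe]
    show Nat.lcm (orderOf q) 1 = 5
    rw [Nat.lcm_one_right, ← Nat.card_zpowers, ← hset.Qq, hset.data.cardQ]
  set C := Subgroup.centralizer (Zs D : Set G) with hC
  have hQC := Q_le_cent hset
  have haQ : Subgroup.zpowers a ≤ C := Subgroup.zpowers_le.2 haC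
  have hfac : (Nat.card C).factorization 5 = 1 := by
    rw [(cent_eq hS hset).2.2, show 2 ^ 15 * 120 = 5 * (2 ^ 15 * 24) by norm_num,
      Nat.factorization_mul (by norm_num) (by norm_num)]
    simp [Nat.Prime.factorization_self, Nat.factorization_eq_zero_of_not_dvd,
      show Nat.Prime 5 by norm_num, show ¬ 5 ∣ 2 ^ 15 * 24 by norm_num]
  let P0 : Sylow 5 C := Sylow.ofCard ((Subgroup.zpowers a).subgroupOf C) (by
    rw [Nat.card_congr (Subgroup.subgroupOfEquivOfLe haQ).toEquiv, Nat.card_zpowers, hao, hfac,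
      pow_one])
  let P1 : Sylow 5 C := Sylow.ofCard (Q.subgroupOf C) (by
    rw [Nat.card_congr (Subgroup.subgroupOfEquivOfLe hQC).toEquiv, hset.data.cardQ, hfac, pow_one])
  obtain ⟨c, hc⟩ := MulAction.exists_smul_eq C P0 P1
  have hcQ : ∀ b ∈ Q, ∃ b0 ∈ Subgroup.zpowers a, b = (c : G) * b0 * (c : G)⁻¹ := by
    intro b hb
    have h1 := congrArg (fun P : Sylow 5 C => (P : Subgroup C)) hc
    simp only [Sylow.coe_subgroup_smul, P0, P1, Sylow.coe_ofCard] at h1
    have hb' : (⟨b, hQC hb⟩ : C) ∈ MulAut.conj c • (Subgroup.zpowers a).subgroupOf C := by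
      rw [h1]; exact hb
    rw [Subgroup.mem_pointwise_smul_iff_inv_smul_mem] at hb'
    refine ⟨(c : G)⁻¹ * b * c, ?_, by group⟩
    simpa [Subgroup.mem_subgroupOf, MulAut.smul_def] using hb'
  let K2 := φ.range.map (MulAut.conj (c : G)).toMonoidHom
  have hK2 : Nat.card K2 = 168 := by
    rw [Subgroup.card_map_of_injective (MulAut.conj (c : G)).injective,
      ← Nat.card_congr (MonoidHom.ofInjective hφ).toEquiv, card_WG]
  have hcomm : ∀ w : ↥(WG D), Commute a (φ w) := fun w => by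
    show Commute (j (e (⟨q, hset.qI⟩, 1))) (j (e (1, w)))
    exact ((show Commute ((⟨q, hset.qI⟩, 1) : ↥I × ↥(WG D)) (1, w) from
      Prod.ext (by simp) (by simp)).map e.toMonoidHom).map j
  refine hset.data.noCompl K2 (fun x hx => hset.data.mem_J ?_ ?_) hK2 ?_
  · obtain ⟨_, ⟨w, rfl⟩, rfl⟩ := Subgroup.mem_map.1 hx
    refine Subgroup.mem_centralizer_iff.2 fun b hb => ?_
    obtain ⟨b0, hb0, rfl⟩ := hcQ b hb
    obtain ⟨k, rfl⟩ := Subgroup.mem_zpowers_iff.1 hb0
    have h := ((hcomm w).zpow_left k).eq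
    show (c : G) * a ^ k * (c : G)⁻¹ * ((c : G) * φ w * (c : G)⁻¹) =
      (c : G) * φ w * (c : G)⁻¹ * ((c : G) * a ^ k * (c : G)⁻¹)
    calc (c : G) * a ^ k * (c : G)⁻¹ * ((c : G) * φ w * (c : G)⁻¹)
        = (c : G) * (a ^ k * φ w) * (c : G)⁻¹ := by group
      _ = (c : G) * (φ w * a ^ k) * (c : G)⁻¹ := by rw [h]
      _ = _ := by group
  · have h' : (⟨x, hx⟩ : K2) ^ Nat.card K2 = 1 := pow_card_eq_one'
    rw [hK2] at h'
    exact pow_dvd_pow (m := 168) (congrArg Subtype.val h') (by norm_num)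
  · rw [Subgroup.eq_bot_iff_forall]
    rintro x ⟨hx, hxZ⟩
    obtain ⟨_, ⟨w, rfl⟩, rfl⟩ := Subgroup.mem_map.1 hx
    have hcM : (c : G) ∈ (Subgroup.normalizer (Lsub D : Set G)) := by
      rw [normalizer_eq D hS.hJ]; exact Subgroup.centralizer_le_normalizer _ c.2
    have h1 : φ w ∈ Lsub D := (Subgroup.mem_normalizer_iff.1 hcM _).2 (Zs_le_Lsub D hxZ)
    have h2 : ((e (1, w) : ↥K) : ↥(Subgroup.normalizer (Lsub D : Set G))) ∈ (Lsub D).subgroupOf (Subgroup.normalizer (Lsub D : Set G)) := Subgroup.mem_subgroupOf.2 h1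
    have h3 := Subgroup.disjoint_def.1 hK.disjoint h2 (e (1, w)).2
    have h4 : φ w = 1 := congrArg Subtype.val h3
    rw [h4, map_one]

theorem seven_le :
    Subgroup.normalizer (S7g D : Set G) ≤ Subgroup.normalizer (Zs D : Set G) := by
  obtain ⟨-, hC840, hN, I', hI', -, -, hdec, hmem⟩ := seven_facts hS
  set X := Subgroup.normalizer (S7g D : Set G) ⊓ Subgroup.normalizer (Zs D : Set G) with hX
  set C7 := Subgroup.centralizer (S7g D : Set G) with hC7
  have hI : I ≤ C7 := fun i hi => mem_cent_S7 cfg (hset.commI i hi)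
  have hII : I' = I := by
    refine (Subgroup.eq_of_le_of_card_ge (fun i hi => hmem i (hset.commI i hi) ?_)
      (by rw [hI', hset.cardI])).symm
    have h' : (⟨i, hi⟩ : I) ^ Nat.card I = 1 := pow_card_eq_one'
    rw [hset.cardI] at h'
    exact congrArg Subtype.val h'
  have hCX : C7 ≤ X := by
    intro c hc
    refine ⟨Subgroup.centralizer_le_normalizer _ hc, ?_⟩
    obtain ⟨s, hs, i, hi, rfl⟩ := hdec c (Y_comm_of_mem cfg hc)
    rw [hII] at hi
    exact mul_mem (Subgroup.zpowers_le.2 (Y_norm D).1 hs)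
      (Subgroup.centralizer_le_normalizer _ (hset.centI hi))
  have hh : D.L (el hP) ∈ X := by
    refine ⟨mem_normalizer_of_conj_le fun a ha => ?_, hh_norm D⟩
    obtain ⟨k, rfl⟩ := Subgroup.mem_zpowers_iff.1 ha
    have h := hh_Y D cfg
    show D.L (el hP) * (Y D) ^ k * (D.L (el hP))⁻¹ ∈ S7g D
    rw [← conj_zpow, show D.L (el hP) * Y D * (D.L (el hP))⁻¹ = Y D * Y D from h]
    exact zpow_mem (mul_mem (Subgroup.mem_zpowers _) (Subgroup.mem_zpowers _)) k
  have hnot : D.L (el hP) ∉ C7 := fun h => by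
    have h1 := Y_comm_of_mem cfg h
    have h2 := hh_Y D cfg
    change D.L (el hP) * Y D = Y D * D.L (el hP) at h1
    change D.L (el hP) * Y D * (D.L (el hP))⁻¹ = Y D * Y D at h2
    rw [h1, mul_inv_cancel_right, left_eq_mul] at h2
    have ho : orderOf (Y D) = 7 := JankoFourSeven.orderOf_Y D cfg
    rw [h2, orderOf_one] at ho
    exact absurd ho (by norm_num)
  have h1 : 840 ∣ Nat.card X := hC840 ▸ Subgroup.card_dvd_of_le hCX
  have h2 : Nat.card X ∣ 2520 := hN ▸ Subgroup.card_dvd_of_le inf_le_left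
  have h3 : Nat.card X ≠ 840 := fun h => hnot (by
    rw [Subgroup.eq_of_le_of_card_ge hCX (by rw [h, hC840])]; exact hh)
  obtain ⟨m, hm⟩ := h1
  have hm3 : m ∣ 3 := by
    rw [hm, show 2520 = 840 * 3 by norm_num] at h2
    exact Nat.dvd_of_mul_dvd_mul_left (by norm_num) h2
  have hm' : m = 3 := ((Nat.dvd_prime Nat.prime_three).1 hm3).resolve_left fun h => h3 (by
    rw [hm, h])
  have : X = Subgroup.normalizer (S7g D : Set G) := Subgroup.eq_of_le_of_card_ge inf_le_left
    (by rw [hN, hm, hm'])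
  exact this ▸ inf_le_right

omit hset

/-- the special subgroup of order `2^15` and its normaliser -/
theorem pentad_local (h5 : Five z) :
    ∃ L : Subgroup G, Cfsg.IsSpecial 2 ↥L ∧ Nat.card ↥L = 2 ^ 15 ∧
    Nat.card ↥(Subgroup.center ↥L) = 8 ∧
    Nonempty (↥(Subgroup.normalizer (L : Set G)) ⧸ L.subgroupOf (Subgroup.normalizer (L : Set G)) ≃*
      Equiv.Perm (Fin 5) × Matrix.SpecialLinearGroup (Fin 3) (ZMod 2)) ∧
    (∀ K : Subgroup ↥(Subgroup.normalizer (L : Set G)),
      ¬ (L.subgroupOf (Subgroup.normalizer (L : Set G))).IsComplement' K) ∧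
    (∃ K₁ : Subgroup G, K₁ ≤ Subgroup.normalizer (L : Set G) ∧
      Nonempty (↥K₁ ≃* Equiv.Perm (Fin 5))) ∧
    (∃ K₂ : Subgroup G, K₂ ≤ Subgroup.normalizer (L : Set G) ∧
      Nonempty (↥K₂ ≃* Matrix.SpecialLinearGroup (Fin 3) (ZMod 2))) ∧
    (∃ Q : Sylow 5 G, Subgroup.normalizer ((Q : Subgroup G) : Set G) ≤
      Subgroup.normalizer (L : Set G)) ∧
    (∃ S : Sylow 7 G, Subgroup.normalizer ((S : Subgroup G) : Set G) ≤
      Subgroup.normalizer (L : Set G)) := by
  obtain ⟨I, Q, J, q, hset⟩ := exists_setup hS h5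
  have heq := normalizer_eq D hS.hJ
  haveI hN : ((Lsub D).subgroupOf (Subgroup.normalizer (Lsub D : Set G))).Normal :=
    Subgroup.normal_subgroupOf_of_le_normalizer le_rfl
  obtain ⟨hsp, hcen⟩ := isSpecial_Lsub D
  obtain ⟨e5⟩ := hset.isoI
  obtain ⟨eW⟩ := (WG_facts D).1
  obtain ⟨f, hf, -⟩ := exists_quot hS hset
  refine ⟨Lsub D, hsp, card_Lsub D, hcen,
    ⟨(MulEquiv.ofBijective f hf).symm.trans (e5.prodCongr eW)⟩, no_complement hS hset,
    ⟨I, heq ▸ hset.centI.trans (Subgroup.centralizer_le_normalizer _), ⟨e5⟩⟩,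
    ⟨WG D, heq ▸ WG_le D, ⟨eW⟩⟩, ?_, ?_⟩
  · haveI : Fact (Nat.Prime 5) := ⟨by norm_num⟩
    have h25 := (fiveData_of_card hS.hJ h5).1
    have hd := hset.data
    let P : Sylow 5 G := Sylow.ofCard Q (by
      rw [hd.cardQ]
      have h1 : 1 ≤ (Nat.card G).factorization 5 :=
        (Nat.Prime.pow_dvd_iff_le_factorization (by norm_num) Nat.card_pos.ne').1
          (by rw [pow_one, ← hd.cardQ]; exact Subgroup.card_subgroup_dvd_card Q)
      have h2 : ¬ 2 ≤ (Nat.card G).factorization 5 := fun h => h25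
        ((Nat.Prime.pow_dvd_iff_le_factorization (by norm_num) Nat.card_pos.ne').2 h)
      rw [show (Nat.card G).factorization 5 = 1 by omega, pow_one])
    refine ⟨P, fun n hn => ?_⟩
    rw [show (P : Subgroup G) = Q from Sylow.coe_ofCard _ _] at hn
    rw [heq]
    exact hd.norm_E hn
  · haveI : Fact (Nat.Prime 7) := ⟨by norm_num⟩
    have h49 := (seven_facts hS).1
    let P : Sylow 7 G := Sylow.ofCard (S7g D) (by
      rw [card_S7g]
      have h1 : 1 ≤ (Nat.card G).factorization 7 :=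
        (Nat.Prime.pow_dvd_iff_le_factorization (by norm_num) Nat.card_pos.ne').1
          (by rw [pow_one, ← card_S7g D]; exact Subgroup.card_subgroup_dvd_card _)
      have h2 : ¬ 2 ≤ (Nat.card G).factorization 7 := fun h => h49
        ((Nat.Prime.pow_dvd_iff_le_factorization (by norm_num) Nat.card_pos.ne').2 h)
      rw [show (Nat.card G).factorization 7 = 1 by omega, pow_one])
    refine ⟨P, ?_⟩
    rw [show (P : Subgroup G) = S7g D from Sylow.coe_ofCard _ _, heq]
    exact seven_le hS hset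

end CfsgLib.Spor.JankoFourPentad
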