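import Cfsg.Agent.Lib.Spor.JankoFourPentad.Centre
import Cfsg.Agent.Lib.Coprime.Action
import Cfsg.Agent.Lib.Recog.AutToGL

/-!
The centraliser of the subspace is the subgroup of order `2^15` extended by the symmetric group of
degree five, and a complement in the stabiliser of the trio induces all automorphisms of it.
-/

set_option autoImplicit false
set_option maxRecDepth 100000
set_option linter.unusedSectionVars false

namespace CfsgLib.Spor.JankoFourPentad

open Cfsg CfsgLib.Spor CfsgLib.Spor.JankoFourCentral CfsgLib.Spor.JankoFourSeven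
open scoped Pointwise

universe u v

theorem gl_equiv_sl : Nonempty (GL (Fin 3) (ZMod 2) ≃* Matrix.SpecialLinearGroup (Fin 3) (ZMod 2)) := by
  refine ⟨(MulEquiv.ofBijective
    (Matrix.SpecialLinearGroup.toGL :
      Matrix.SpecialLinearGroup (Fin 3) (ZMod 2) →* GL (Fin 3) (ZMod 2)) ⟨?_, fun g => ?_⟩).symm⟩
  · intro a b h
    exact Subtype.ext (congrArg (fun u : GL (Fin 3) (ZMod 2) => (u : Matrix (Fin 3) (Fin 3) (ZMod 2))) h)
  · have h1 : (g : Matrix (Fin 3) (Fin 3) (ZMod 2)).det = 1 := by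
      have h : IsUnit (g : Matrix (Fin 3) (Fin 3) (ZMod 2)).det :=
        (Matrix.isUnit_iff_isUnit_det _).1 g.isUnit
      have key : ∀ a : ZMod 2, a ≠ 0 → a = 1 := by decide
      exact key _ h.ne_zero
    exact ⟨⟨_, h1⟩, Units.ext rfl⟩

theorem card_prod_sup {G : Type*} [Group G] [Finite G] {H K : Subgroup G}
    (hn : K ≤ Subgroup.normalizer (H : Set G)) (hd : H ⊓ K = ⊥) :
    Nat.card ↥(H ⊔ K) = Nat.card H * Nat.card K := by
  rw [← Nat.card_prod]
  refine (Nat.card_eq_of_bijective (fun x : H × K =>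
    (⟨(x.1 : G) * x.2, mul_mem (Subgroup.mem_sup_left x.1.2) (Subgroup.mem_sup_right x.2.2)⟩ :
      ↥(H ⊔ K))) ⟨?_, ?_⟩).symm
  · intro x y e
    exact Subgroup.mul_injective_of_disjoint (disjoint_iff.2 hd) (congrArg Subtype.val e)
  · rintro ⟨g, hg⟩
    have h : g ∈ (↑(H ⊔ K) : Set G) := hg
    rw [Subgroup.coe_mul_of_right_le_normalizer_left _ _ hn] at h
    obtain ⟨a, ha, b, hb, rfl⟩ := h
    exact ⟨(⟨a, ha⟩, ⟨b, hb⟩), rfl⟩

variable {G : Type u} [Group G] [Finite G] {z : G} {A : Type v} [AddCommGroup A] (D : Eleven z A)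

/-- the complement of order `168` in `M24` -/
noncomputable def Wsub : Subgroup M24 := Subgroup.closure {el yP, el y2P}

/-- the complement of order `168` -/
noncomputable def WG : Subgroup G := Wsub.map (Lhom D)

theorem mem_Wsub_iff {σ : M24} : σ ∈ Wsub ↔ ∃ a ∈ wList', el a = σ := by
  obtain ⟨hlen, -, h0, htree, hclosed, -, -⟩ := w_check
  constructor
  · intro h
    have hy : ∀ a ∈ wList', ∀ g, (g = el yP ∨ g = el y2P) → ∃ b ∈ wList', el b = el a * g := by
      intro a ha g hg
      have h := List.all_eq_true.1 hclosed a ha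
      rw [Bool.and_eq_true] at h
      rcases hg with rfl | rfl
      · obtain ⟨b, hb, e⟩ := List.any_eq_true.1 h.1
        exact ⟨b, hb, by rw [← el_mul (repIn_wList ha) packs.1, Nat.eq_of_beq_eq_true e]⟩
      · obtain ⟨b, hb, e⟩ := List.any_eq_true.1 h.2
        exact ⟨b, hb, by
          rw [← el_mul (repIn_wList ha) packs.2.2.2.2.1, Nat.eq_of_beq_eq_true e]⟩
    have h' : σ ∈ Submonoid.closure ({el yP, el y2P} : Set M24) := by
      rw [← Subgroup.closure_toSubmonoid_of_finite]; exact h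
    induction h' using Submonoid.closure_induction_right with
    | one => exact ⟨_, by
        rw [List.getD_eq_getElem _ _ (show 0 < wList'.length by rw [wList', List.length_map, hlen]; norm_num)]
        exact List.getElem_mem _, (congrArg el (Nat.eq_of_beq_eq_true h0)).trans el_eP⟩
    | mul_right x _ g hg ih =>
      obtain ⟨a, ha, rfl⟩ := ih (by
        show x ∈ Subgroup.closure ({el yP, el y2P} : Set M24)
        rw [← Subgroup.mem_toSubmonoid, Subgroup.closure_toSubmonoid_of_finite]; assumption)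
      exact hy a ha g (by simpa using hg)
  · rintro ⟨a, ha, rfl⟩
    obtain ⟨i, hi, rfl⟩ := List.getElem_of_mem ha
    rw [← List.getD_eq_getElem _ 0 hi]
    induction i using Nat.strong_induction_on with
    | _ i ih =>
      by_cases hi0 : i = 0
      · rw [hi0, Nat.eq_of_beq_eq_true h0, el_eP]; exact one_mem _
      have hi' : i < 168 := by rw [wList', List.length_map, hlen] at hi; exact hi
      have h := List.all_eq_true.1 htree i (List.mem_range.2 hi')
      simp only [Bool.or_eq_true, Nat.beq_eq, Bool.and_eq_true, Nat.blt_eq] at h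
      obtain ⟨hlt, he⟩ := h.resolve_left hi0
      have e1 : wList'.getD i 0 = (wTbl.getD i (0, 0, 0)).1 := by
        rw [List.getD_eq_getElem _ _ hi, List.getD_eq_getElem _ _ (by rw [hlen]; exact hi')]
        simp [wList']
      rw [e1, ← he]
      have hpar : (wTbl.getD i (0, 0, 0)).2.1 < wList'.length := hlt.trans hi
      have hr : RepIn M24 (wList'.getD (wTbl.getD i (0, 0, 0)).2.1 0) := by
        rw [List.getD_eq_getElem _ _ hpar]; exact repIn_wList (List.getElem_mem _)
      have hmem := ih _ hlt hpar (List.getElem_mem _)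
      cases hb : Nat.beq (wTbl.getD i (0, 0, 0)).2.2 0
      · rw [cond_false, el_mul hr packs.2.2.2.2.1]
        exact mul_mem hmem (Subgroup.subset_closure (by simp))
      · rw [cond_true, el_mul hr packs.1]
        exact mul_mem hmem (Subgroup.subset_closure (by simp))

theorem card_Wsub : Nat.card Wsub = 168 := by
  classical
  obtain ⟨hlen, hnd, -⟩ := w_check
  have hnorm : ∀ a ∈ wList', compP a eP = a := by decide +kernel
  have hl : wList'.length = 168 := by rw [wList', List.length_map, hlen]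
  rw [← hl, ← List.toFinset_card_of_nodup hnd, ← Nat.card_eq_finsetCard]
  refine (Nat.card_eq_of_bijective (fun a : ↥wList'.toFinset =>
    (⟨el a, mem_Wsub_iff.2 ⟨a, List.mem_toFinset.1 a.2, rfl⟩⟩ : Wsub)) ⟨?_, ?_⟩).symm
  · intro a b e
    refine Subtype.ext ?_
    rw [← hnorm a (List.mem_toFinset.1 a.2), ← hnorm b (List.mem_toFinset.1 b.2), compP, compP]
    congr 1
    refine List.map_congr_left fun i hi => ?_
    have hlt : getP eP i < 24 := by revert i; decide +kernel
    exact el_inj (repIn_wList (List.mem_toFinset.1 a.2)) (repIn_wList (List.mem_toFinset.1 b.2))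
      (congrArg Subtype.val e) hlt
  · rintro ⟨σ, hσ⟩
    obtain ⟨a, ha, rfl⟩ := mem_Wsub_iff.1 hσ
    exact ⟨⟨a, List.mem_toFinset.2 ha⟩, rfl⟩

theorem card_WG : Nat.card (WG D) = 168 := by
  rw [WG, Subgroup.card_map_of_injective (Lhom_injective D), card_Wsub]

theorem Y_mem_WG : Y D ∈ WG D :=
  ⟨el yP, Subgroup.subset_closure (by simp), rfl⟩

theorem el_y2 : el y2P = el w0P * el yP * (el w0P)⁻¹ := by
  rw [eq_mul_inv_iff_mul_eq, ← el_mul packs.2.2.2.2.1 packs.2.2.2.1, ← el_mul packs.2.2.2.1 packs.1,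
    Nat.eq_of_beq_eq_true rel_check.2.2.2.2.1]

theorem w0_norm : D.L (el w0P) ∈ Subgroup.normalizer (Zs D : Set G) := by
  have hr := rep_el packs.2.2.2.1
  refine mem_normalizer_of_conj_le (conj_vm_mem D hr ev_check.1 fun a ha => ?_)
  have h := z_check.2.1
  simp only [List.all_eq_true, Bool.and_eq_true] at h
  obtain ⟨b, hb, e⟩ := exists_memC D ev_check.1 (ev_of_rep hr (ev_zGen ha)) (h a ha).1.2
  exact ⟨b, hb, e.symm⟩

theorem L_y2 : D.L (el y2P) = D.L (el w0P) * Y D * (D.L (el w0P))⁻¹ := by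
  rw [el_y2, D.L_mul, D.L_mul, D.L_inv]; rfl

theorem WG_le : WG D ≤ Subgroup.normalizer (Zs D : Set G) := by
  rw [WG, Wsub, MonoidHom.map_closure, Subgroup.closure_le]
  rintro _ ⟨σ, hσ, rfl⟩
  rcases hσ with rfl | rfl
  · exact (Y_norm D).1
  · rw [SetLike.mem_coe, Lhom_apply, L_y2]
    exact mul_mem (mul_mem (w0_norm D) (Y_norm D).1) (inv_mem (w0_norm D))

theorem WG_faithful : WG D ⊓ Subgroup.centralizer (Zs D : Set G) = ⊥ := by
  rw [Subgroup.eq_bot_iff_forall]
  rintro _ ⟨⟨σ, hσ, rfl⟩, hc⟩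
  obtain ⟨a, ha, rfl⟩ := mem_Wsub_iff.1 hσ
  obtain ⟨-, -, -, -, -, hfaith, -⟩ := w_check
  have h := List.all_eq_true.1 hfaith a ha
  simp only [Bool.or_eq_true, Nat.beq_eq] at h
  rcases h with h | h
  · rw [h, el_eP, map_one]
  · obtain ⟨m, hm, h⟩ := List.any_eq_true.1 h
    rw [Bool.not_eq_true', ← Bool.not_eq_true] at h
    refine absurd ((fixC_iff D (rep_el (repIn_wList ha)) (ev_zGen hm)).2 ?_) h
    exact mul_inv_eq_iff_eq_mul.2
      (Subgroup.mem_centralizer_iff.1 hc _ (vm_mem_vSub D hm : D.vm m ∈ Zs D)).symm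

theorem Y_not_cent : Y D ∉ Subgroup.centralizer (Zs D : Set G) := fun h => by
  have h1 := (Subgroup.eq_bot_iff_forall _).1 (WG_faithful D) _ ⟨Y_mem_WG D, h⟩
  have h2 : orderOf (Y D) = 7 := JankoFourSeven.orderOf_Y D cfg
  rw [h1, orderOf_one] at h2
  exact absurd h2 (by norm_num)

theorem cent_normalised {g : G} (hg : g ∈ Subgroup.normalizer (Zs D : Set G)) :
    g ∈ Subgroup.normalizer ((Subgroup.centralizer (Zs D : Set G) : Subgroup G) : Set G) :=
  mem_normalizer_of_conj_le fun c hc => Subgroup.mem_centralizer_iff.2 fun w hw => by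
    have h := Subgroup.mem_centralizer_iff.1 hc _ ((Subgroup.mem_normalizer_iff''.1 hg w).1 hw)
    calc w * (g * c * g⁻¹) = g * ((g⁻¹ * w * g) * c) * g⁻¹ := by group
      _ = g * (c * (g⁻¹ * w * g)) * g⁻¹ := by rw [h]
      _ = _ := by group

theorem Lsub_le_cent : Lsub D ≤ Subgroup.centralizer (Zs D : Set G) :=
  fun _ hx => Subgroup.mem_centralizer_iff.2 fun _ hw => (Zs_central D hw hx).symm

theorem Lsub_fix_Y {g : G} (hg : g ∈ Lsub D) (hc : g * Y D = Y D * g) : g = 1 := by
  obtain ⟨_, ⟨w, hw, rfl⟩, u, hu, rfl⟩ := (mem_Lsub D).1 hg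
  have hr := repIn_uList hu
  have hσ : el u * el yP = el yP * el u := by
    have h := congrArg (pr D) hc
    have hgN := mul_mem (JankoFourSeven.V_le_normalizer D (D.vm_mem w)) (D.L_mem (el u))
    rw [Y] at h
    rw [pr_mul D hgN (D.L_mem _), pr_mul D (D.L_mem _) hgN, pr_vL D (D.vm_mem w), pr_L] at h
    exact h
  have hu1 : u = eP := by
    have h := List.all_eq_true.1 y_free_check.2 u hu
    simp only [Bool.or_eq_true, Bool.not_eq_true', Nat.beq_eq] at h
    refine h.resolve_left fun h' => ?_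
    rw [← Bool.not_eq_true, Nat.beq_eq] at h'
    refine h' (congrArg packL (List.map_congr_left fun i hi => ?_))
    have e : (el u * el yP : M24) = el yP * el u := hσ
    have h1 := (rep_el hr).mul (rep_el packs.1)
    have h2 := (rep_el packs.1).mul (rep_el hr)
    rw [← Subgroup.coe_mul, e, Subgroup.coe_mul] at h1
    have h3 := (h1 i (List.mem_range.1 hi)).trans (h2 i (List.mem_range.1 hi)).symm
    rw [compP, compP, getP_packL _ _ (by simpa using hi), getP_packL _ _ (by simpa using hi)] at h3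
    simp only [List.getElem_map, List.getElem_range] at h3
    have hb : ∀ x, getP x (getP yP i) < 32 ∧ getP yP (getP x i) < 32 := fun x =>
      ⟨Nat.lt_succ_of_le Nat.and_le_right, Nat.lt_succ_of_le Nat.and_le_right⟩
    rwa [Nat.mod_eq_of_lt (hb u).1, Nat.mod_eq_of_lt (hb u).2] at h3
  rw [hu1, el_eP, D.L_one, mul_one] at hc ⊢
  have h := List.all_eq_true.1 y_free_check.1 w hw
  simp only [Bool.or_eq_true, Bool.not_eq_true'] at h
  rcases h with h | h
  · rw [← Bool.not_eq_true] at h
    exact absurd ((fixC_iff D (rep_el packs.1) (ev_v9 hw)).2 (mul_inv_eq_iff_eq_mul.2 hc.symm)) h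
  · exact D.vm_eq_one (ev_v9 hw) h

include D in
theorem not_two_pow_dvd : ¬ 2 ^ 22 ∣ Nat.card G := by
  haveI : Fact (Nat.Prime 2) := ⟨Nat.prime_two⟩
  obtain ⟨T, hT⟩ := D.isPGroup_V.exists_le_sylow
  have hTN : (T : Subgroup G) ≤ Subgroup.normalizer (D.V : Set G) := fun g hg =>
    D.mem_normalizer_of_map (D.eq_conj_of_le T g hT (by
      rintro _ ⟨v, hv, rfl⟩
      exact mul_mem (mul_mem hg (hT hv)) (inv_mem hg)))
  have hN : Nat.card ↥(Subgroup.normalizer (D.V : Set G)) = 2 ^ 11 * 244823040 := by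
    rw [← D.sup, sup_comm, card_prod_sup D.K_le (by rw [inf_comm]; exact D.inf), D.card, D.cardK,
      natCard_M24]
  intro h
  obtain ⟨k, hk⟩ := IsPGroup.iff_card.1 T.isPGroup'
  have h22 : 22 ≤ k := by
    have h1 := Sylow.card_eq_multiplicity T
    rw [hk] at h1
    have h2 := Nat.pow_right_injective le_rfl h1
    rw [h2]
    exact (Nat.Prime.pow_dvd_iff_le_factorization Nat.prime_two Nat.card_pos.ne').1 h
  have := (Nat.pow_dvd_pow 2 h22).trans (hk ▸ Subgroup.card_dvd_of_le hTN)
  rw [hN] at this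
  norm_num at this

variable {D} (hS : Std D) {I Q J : Subgroup G} {q : G} (hset : Setup D I Q J q)
include hset

theorem Q_le_cent : Q ≤ Subgroup.centralizer (Zs D : Set G) := by
  rw [hset.Qq, Subgroup.zpowers_le]; exact hset.centI hset.qI

theorem card_cent_cent :
    Nat.card ↥(Subgroup.centralizer (Zs D : Set G) ⊓ Subgroup.centralizer (Q : Set G)) = 40 := by
  have hd := hset.data
  have heq : Subgroup.centralizer (Zs D : Set G) ⊓ Subgroup.centralizer (Q : Set G) = Zs D ⊔ Q := by
    refine le_antisymm (fun c hc => ?_) (sup_le (le_inf (fun w hw => V_centralizes_Zs D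
      (Zs_le_V D hw)) hd.le_cent) (le_inf (Q_le_cent hset) (fun a ha => ?_)))
    · obtain ⟨a, ha, b, hb, rfl, -⟩ := hd.decompose hc.2
      have hbZ : b ∈ J ⊓ Subgroup.centralizer (Zs D : Set G) := by
        refine ⟨hb, ?_⟩
        have := Subgroup.mul_mem _ (Subgroup.inv_mem _ (Q_le_cent hset ha)) hc.1
        rwa [inv_mul_cancel_left] at this
      have hM : J ≤ Subgroup.normalizer
          ((J ⊓ Subgroup.centralizer (Zs D : Set G) : Subgroup G) : Set G) := fun j hj =>
        mem_normalizer_of_conj_le fun w hw => ⟨J.mul_mem (J.mul_mem hj hw.1) (J.inv_mem hj),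
          (Subgroup.mem_normalizer_iff.1 (cent_normalised D (hd.norm hj)) w).1 hw.2⟩
      rcases hd.simple _ inf_le_left
        (le_inf hd.le fun w hw => V_centralizes_Zs D (Zs_le_V D hw)) hM with e | e
      · rw [e] at hbZ
        exact mul_mem (Subgroup.mem_sup_right ha) (Subgroup.mem_sup_left hbZ)
      · exfalso
        have h : Y D ∈ J ⊓ Subgroup.centralizer (Zs D : Set G) := by rw [e]; exact hset.Y_mem
        exact Y_not_cent D h.2
    · rw [hset.Qq] at ha ⊢
      obtain ⟨k, rfl⟩ := Subgroup.mem_zpowers_iff.1 ha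
      refine Subgroup.mem_centralizer_iff.2 fun w hw => ?_
      obtain ⟨l, rfl⟩ := Subgroup.mem_zpowers_iff.1 hw
      exact ((Commute.refl q).zpow_zpow l k).eq
  have hn : Q ≤ Subgroup.normalizer (Zs D : Set G) :=
    (Q_le_cent hset).trans (Subgroup.centralizer_le_normalizer _)
  rw [heq, card_prod_sup hn ?_, card_Zs, hd.cardQ]
  rw [eq_bot_iff, ← hd.Q_inf_J]
  exact le_inf inf_le_right (inf_le_left.trans hd.le)

theorem card_norm_cent :
    Nat.card ↥(Subgroup.centralizer (Zs D : Set G) ⊓ Subgroup.normalizer (Q : Set G)) = 160 := by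
  have hd := hset.data
  set C := Subgroup.centralizer (Q : Set G) with hC
  set P := Subgroup.centralizer (Zs D : Set G) ⊓ Subgroup.normalizer (Q : Set G) with hP
  have hCN : C ≤ Subgroup.normalizer (Q : Set G) := Subgroup.centralizer_le_normalizer _
  have hPC : Nat.card ↥(C.subgroupOf P) = 40 := by
    rw [← card_cent_cent hset, ← Subgroup.card_map_of_injective P.subtype_injective,
      Subgroup.subgroupOf_map_subtype]
    congr 2
    refine le_antisymm (fun c hc => ⟨hc.2.1, hc.1⟩) fun c hc => ⟨hc.2, hc.1, hCN hc.2⟩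
  have hcard : Nat.card C = 6720 := by
    obtain ⟨h1, h2, h3, h4, h5⟩ := hd.prod
    have hle : J ≤ Subgroup.normalizer (Q : Set G) := h2.trans hCN
    rw [hC, ← h5, card_prod_sup hle h4, hd.cardQ, hd.cardJ]
  have hrel : C.relIndex (Subgroup.normalizer (Q : Set G)) = 4 := by
    have h := (C.subgroupOf (Subgroup.normalizer (Q : Set G))).card_mul_index
    rw [Nat.card_congr (Subgroup.subgroupOfEquivOfLe hCN).toEquiv, hd.cardN, hcard] at h
    rw [Subgroup.relIndex]
    omega
  refine le_antisymm ?_ ?_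
  · have h := (C.subgroupOf P).card_mul_index
    rw [hPC] at h
    have hle : C.relIndex P ≤ 4 :=
      hrel ▸ Subgroup.relIndex_le_of_le_right inf_le_right (by rw [hrel]; norm_num)
    rw [Subgroup.relIndex] at hle
    rw [← h]
    omega
  · have hxP : x4 D ∈ P := ⟨hset.centI hset.x_mem, hset.x_norm⟩
    have hne : ∀ i, 0 < i → i < 4 → x4 D ^ i ∉ C := by
      intro i hi hi' h
      have h2 : x4 D * x4 D ∈ C := by
        interval_cases i
        · rw [pow_one] at h; exact mul_mem h h
        · rwa [pow_two] at h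
        · have e : (x4 D ^ 3) * (x4 D ^ 3) = x4 D * x4 D := by
            rw [← pow_add, show 3 + 3 = 4 + 2 by norm_num, pow_add, x4_four, one_mul, pow_two]
          exact e ▸ mul_mem h h
      refine hset.x_cent (Subgroup.mem_centralizer_iff.1 h2 q ?_).symm
      rw [SetLike.mem_coe, hset.Qq]
      exact Subgroup.mem_zpowers q
    let f : Fin 4 × ↥(C.subgroupOf P) → P := fun p => ⟨x4 D, hxP⟩ ^ (p.1 : ℕ) * (p.2 : P)
    have hf : Function.Injective f := by
      intro a b h
      have h' : x4 D ^ (a.1 : ℕ) * (a.2 : G) = x4 D ^ (b.1 : ℕ) * (b.2 : G) := by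
        have := congrArg Subtype.val h
        simpa [f] using this
      have key : ∀ (i j : Fin 4) (c d : G), c ∈ C → d ∈ C → (i : ℕ) ≤ j →
          x4 D ^ (i : ℕ) * c = x4 D ^ (j : ℕ) * d → i = j := by
        intro i j c d hc hd' hij he
        by_contra hne'
        refine hne ((j : ℕ) - i) (Nat.sub_pos_of_lt (lt_of_le_of_ne hij (Fin.val_ne_of_ne hne')))
          (lt_of_le_of_lt (Nat.sub_le _ _) j.2) ?_
        have e2 : x4 D ^ ((j : ℕ) - i) = c * d⁻¹ := by
          rw [eq_mul_inv_iff_mul_eq]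
          refine mul_left_cancel (a := x4 D ^ (i : ℕ)) ?_
          rw [← mul_assoc, ← pow_add, show (i : ℕ) + (j - i) = j by omega, he]
        rw [e2]; exact mul_mem hc (inv_mem hd')
      have h1 : a.1 = b.1 := by
        rcases le_total (a.1 : ℕ) b.1 with hh | hh
        · exact key _ _ _ _ a.2.2 b.2.2 hh h'
        · exact (key _ _ _ _ b.2.2 a.2.2 hh h'.symm).symm
      rw [h1] at h'
      exact Prod.ext h1 (Subtype.ext (Subtype.ext (mul_left_cancel h')))
    have h := Nat.card_le_card_of_injective f hf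
    rw [Nat.card_prod, hPC, Nat.card_fin] at h
    exact h

include hS

/-- the centraliser of the subspace -/
theorem cent_eq :
    Subgroup.centralizer (Zs D : Set G) = Lsub D ⊔ I ∧ Lsub D ⊓ I = ⊥ ∧
      Nat.card ↥(Subgroup.centralizer (Zs D : Set G)) = 2 ^ 15 * 120 := by
  haveI : Fact (Nat.Prime 5) := ⟨by norm_num⟩
  haveI : Fact (Nat.Prime 11) := ⟨by norm_num⟩
  haveI : Fact (Nat.Prime 7) := ⟨by norm_num⟩
  obtain ⟨h49, hC840, -, -⟩ := seven_facts hS
  set C := Subgroup.centralizer (Zs D : Set G) with hC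
  have hCN : C ≤ Subgroup.normalizer (Lsub D : Set G) := by
    rw [normalizer_eq D hS.hJ]; exact Subgroup.centralizer_le_normalizer _
  have hinf : Lsub D ⊓ I = ⊥ :=
    (Subgroup.eq_bot_iff_forall _).2 fun g hg => Lsub_fix_Y D hg.1 (hset.commI g hg.2)
  have hsub : Lsub D ⊔ I ≤ C := sup_le (Lsub_le_cent D) hset.centI
  have hc := card_prod_sup (hset.centI.trans hCN) hinf
  rw [card_Lsub, hset.cardI] at hc
  obtain ⟨d, hd⟩ : 2 ^ 15 * 120 ∣ Nat.card C := hc ▸ Subgroup.card_dvd_of_le hsub
  have hWC : Nat.card C * 168 ∣ Nat.card G := by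
    rw [← card_WG D, ← card_prod_sup
      (fun g hg => cent_normalised D (WG_le D hg)) (by rw [inf_comm]; exact WG_faithful D)]
    exact Subgroup.card_subgroup_dvd_card _
  have hHd : Nat.card C ∣ 2 ^ 21 * 3 ^ 3 * 5 * 7 * 11 := by
    obtain ⟨g, hg⟩ := isConj_iff.1 D.isConj_z₀
    have e : Nat.card ↥(Subgroup.centralizer ({D.z₀} : Set G)) =
        Nat.card ↥(Subgroup.centralizer ({z} : Set G)) := by
      rw [← hg, ← map_cent_singleton, Subgroup.card_map_of_injective (MulAut.conj g).injective]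
    rw [← card_centralizer hS.hJ, ← e]
    refine Subgroup.card_dvd_of_le fun c hc => Subgroup.mem_centralizer_singleton_iff.2 ?_
    exact (Subgroup.mem_centralizer_iff.1 hc _ (z₀_mem_Zs D)).symm
  have hd2 : ¬ 2 ∣ d := fun ⟨e, he⟩ => not_two_pow_dvd D
    ((Dvd.intro (15 * 21 * e) (by rw [hd, he]; ring)).trans hWC)
  have h7C : ¬ 7 ∣ Nat.card C := fun ⟨e, he⟩ =>
    h49 ((Dvd.intro (24 * e) (by rw [he]; ring)).trans hWC)
  have hd7 : ¬ 7 ∣ d := fun h => h7C (hd ▸ dvd_mul_of_dvd_right h _)
  have hdd : d ∈ [1, 3, 9, 11, 33, 99] := by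
    have h1 : d ∣ 2 ^ 3 * (7 * 99) := by
      rw [hd, show 2 ^ 21 * 3 ^ 3 * 5 * 7 * 11 = 2 ^ 15 * 120 * (2 ^ 3 * (7 * 99)) by norm_num] at hHd
      exact Nat.dvd_of_mul_dvd_mul_left (by norm_num) hHd
    have h2 : Nat.Coprime d (2 ^ 3) :=
      Nat.Coprime.pow_right 3 ((Nat.Prime.coprime_iff_not_dvd Nat.prime_two).2 hd2).symm
    have h3 : Nat.Coprime d 7 :=
      ((Nat.Prime.coprime_iff_not_dvd (by norm_num : Nat.Prime 7)).2 hd7).symm
    have h4 : d ∣ 99 := h3.dvd_of_dvd_mul_left (h2.dvd_of_dvd_mul_left h1)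
    have h5 : d ≤ 99 := Nat.le_of_dvd (by norm_num) h4
    interval_cases d <;> simp_all
  have hQC := Q_le_cent hset
  have hfac : (Nat.card C).factorization 5 = 1 := by
    apply le_antisymm
    · by_contra h
      have h25 : 25 ∣ Nat.card C := (show (25 : ℕ) = 5 ^ 2 by norm_num) ▸
        (Nat.Prime.pow_dvd_iff_le_factorization (by norm_num) Nat.card_pos.ne').2 (by omega)
      rw [hd] at h25
      simp only [List.mem_cons, List.not_mem_nil, or_false] at hdd
      rcases hdd with rfl | rfl | rfl | rfl | rfl | rfl <;> norm_num at h25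
    · refine (Nat.Prime.pow_dvd_iff_le_factorization (by norm_num) Nat.card_pos.ne').1 ?_
      rw [pow_one, ← hset.data.cardQ]
      exact Subgroup.card_dvd_of_le hQC
  let P5 : Sylow 5 C := Sylow.ofCard (Q.subgroupOf C) (by
    rw [Nat.card_congr (Subgroup.subgroupOfEquivOfLe hQC).toEquiv, hset.data.cardQ, hfac, pow_one])
  have hn5 : Nat.card (Sylow 5 C) * 160 = Nat.card C := by
    rw [P5.card_eq_index_normalizer, ← card_norm_cent hset, mul_comm]
    have e : Subgroup.normalizer ((P5 : Subgroup C) : Set C) =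
        (Subgroup.normalizer (Q : Set G)).subgroupOf C := by
      rw [show (P5 : Subgroup C) = Q.subgroupOf C from Sylow.coe_ofCard _ _]
      ext c
      rw [Subgroup.mem_subgroupOf, Subgroup.mem_normalizer_iff, Subgroup.mem_normalizer_iff]
      exact ⟨fun h g => ⟨fun hg => (h ⟨g, hQC hg⟩).1 hg, fun hg => by
        have hgC : g ∈ C := by
          have := mul_mem (mul_mem (inv_mem c.2) (hQC hg)) c.2
          simpa [mul_assoc] using this
        exact (h ⟨g, hgC⟩).2 hg⟩, fun h g => h g⟩
    have h := ((Subgroup.normalizer (Q : Set G)).subgroupOf C).card_mul_index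
    erw [e]
    rw [← h]
    congr 1
    rw [← Subgroup.card_map_of_injective C.subtype_injective, Subgroup.subgroupOf_map_subtype,
      inf_comm]
  have hm := card_sylow_modEq_one 5 C
  have hd11 : d = 1 := by
    rw [Nat.ModEq] at hm
    simp only [List.mem_cons, List.not_mem_nil, or_false] at hdd
    have hcase : d = 1 ∨ d = 11 := by
      rw [hd] at hn5
      rcases hdd with rfl | rfl | rfl | rfl | rfl | rfl <;> omega
    refine hcase.resolve_right fun h11 => ?_
    subst h11
    obtain ⟨P, hP⟩ := CfsgLib.Coprime.exists_invariant_sylow (p := 11)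
      (A := Subgroup.zpowers (Y D)) (K := C)
      (Subgroup.zpowers_le.2 (cent_normalised D (Y_norm D).1))
      (by
        rw [Nat.card_zpowers, show orderOf (Y D) = 7 from JankoFourSeven.orderOf_Y D cfg]
        exact (Nat.Prime.coprime_iff_not_dvd (by norm_num)).2 h7C)
      (Or.inl inferInstance)
    set R := (P : Subgroup C).map C.subtype with hR
    have hRc : Nat.card R = 11 := by
      rw [Subgroup.card_map_of_injective C.subtype_injective, P.card_eq_multiplicity, hd]
      rw [show 2 ^ 15 * 120 * 11 = 11 * (2 ^ 15 * 120) by norm_num,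
        Nat.factorization_mul (by norm_num) (by norm_num)]
      simp [Nat.Prime.factorization_self, Nat.factorization_eq_zero_of_not_dvd,
        show Nat.Prime 11 by norm_num, show ¬ 11 ∣ 2 ^ 15 * 120 by norm_num]
    obtain ⟨⟨r, hrR⟩, hro⟩ := exists_prime_orderOf_dvd_card' (G := R) 11 (by rw [hRc])
    rw [Subgroup.orderOf_mk] at hro
    have hRz : R = Subgroup.zpowers r := (Subgroup.eq_of_le_of_card_ge
      (Subgroup.zpowers_le.2 hrR) (by rw [Nat.card_zpowers, hro, hRc])).symm
    have hYr : Y D * r * (Y D)⁻¹ ∈ Subgroup.zpowers r := hRz ▸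
      (Subgroup.mem_normalizer_iff.1 (hP (Subgroup.mem_zpowers _)) r).1 hrR
    obtain ⟨m, hm'⟩ := ((isOfFinOrder_of_finite r).mem_powers_iff_mem_zpowers).2 hYr
    change r ^ m = Y D * r * (Y D)⁻¹ at hm'
    have hk : ∀ k : ℕ, Y D ^ k * r * (Y D ^ k)⁻¹ = r ^ m ^ k := by
      intro k
      induction k with
      | zero => simp
      | succ k ih =>
        calc Y D ^ (k + 1) * r * (Y D ^ (k + 1))⁻¹
            = Y D ^ k * (Y D * r * (Y D)⁻¹) * (Y D ^ k)⁻¹ := by rw [pow_succ]; group
          _ = r ^ m ^ (k + 1) := by rw [← hm', ← conj_pow, ih, pow_succ, pow_mul]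
    have h7 := hk 7
    rw [Y_seven, one_mul, inv_one, mul_one] at h7
    have h7' : r ^ 1 = r ^ m ^ 7 := by rw [pow_one]; exact h7
    rw [pow_eq_pow_iff_modEq, hro, Nat.ModEq, Nat.pow_mod] at h7'
    have hm1 : m % 11 = 1 := by
      have hlt := Nat.mod_lt m (show 11 > 0 by norm_num)
      interval_cases hmv : m % 11 <;> first | rfl | (revert h7'; decide)
    have hcr : Y D * r = r * Y D := by
      rw [← mul_inv_eq_iff_eq_mul, ← hm']
      calc r ^ m = r ^ (m % 11) := by rw [← hro, pow_mod_orderOf]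
        _ = r := by rw [hm1, pow_one]
    have hrC : r ∈ Subgroup.centralizer (S7g D : Set G) := mem_cent_S7 cfg hcr.symm
    have := Subgroup.orderOf_dvd_natCard _ hrC
    rw [hro, hC840] at this
    norm_num at this
  refine ⟨(Subgroup.eq_of_le_of_card_ge hsub (by rw [hd, hc, hd11, mul_one])).symm, hinf,
    by rw [hd, hd11, mul_one]⟩

end CfsgLib.Spor.JankoFourPentad
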