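import Cfsg.Agent.Lib.Spor.JankoFourPentad.SevenSide

/-!
An elementary abelian subgroup of order eight acted on freely by the element of order seven and
normalised by the element of order four lies among the vectors fixed by the involution.
-/

set_option autoImplicit false
set_option maxRecDepth 100000
set_option linter.unusedSectionVars false

namespace CfsgLib.Spor.JankoFourPentad

open Cfsg CfsgLib.Spor CfsgLib.Spor.JankoFourCentral CfsgLib.Spor.JankoFourSeven
open scoped Pointwise symmDiff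

theorem exists_fixed {G : Type*} [Group G] [Finite G] {F : Subgroup G} {g : G} {p n : ℕ}
    [Fact p.Prime] (hg : g ∈ Subgroup.normalizer (F : Set G)) (hp : g ^ p ^ n = 1)
    (hdiv : ¬ p ∣ Nat.card F - 1) : ∃ f ∈ F, f ≠ 1 ∧ g * f = f * g := by
  classical
  haveI : Fintype {f : F // f ≠ 1} := Fintype.ofFinite _
  let c : {f : F // f ≠ 1} → {f : F // f ≠ 1} := fun f =>
    ⟨⟨g * (f.1 : G) * g⁻¹, (Subgroup.mem_normalizer_iff.1 hg _).1 f.1.2⟩, fun h =>
      f.2 (Subtype.ext (conj_eq_one_iff.1 (congrArg Subtype.val h)))⟩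
  have hc : Function.Bijective c := Finite.injective_iff_bijective.1 fun a b h => by
    have h' : g * (a.1 : G) * g⁻¹ = g * (b.1 : G) * g⁻¹ := congrArg (fun w => (w.1 : G)) h
    exact Subtype.ext (Subtype.ext (mul_left_cancel (mul_right_cancel h')))
  let σ : Equiv.Perm {f : F // f ≠ 1} := Equiv.ofBijective c hc
  have hpow : ∀ (k : ℕ) (f : {f : F // f ≠ 1}),
      (((σ ^ k) f).1 : G) = g ^ k * (f.1 : G) * (g ^ k)⁻¹ := by
    intro k
    induction k with
    | zero => intro f; simp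
    | succ k ih =>
      intro f
      rw [pow_succ', Equiv.Perm.mul_apply]
      show g * (((σ ^ k) f).1 : G) * g⁻¹ = _
      rw [ih, pow_succ']
      group
  have hσ : σ ^ p ^ n = 1 := Equiv.ext fun f => Subtype.ext (Subtype.ext (by
    rw [hpow, hp]; simp))
  have hcard : Fintype.card {f : F // f ≠ 1} = Nat.card F - 1 := by
    haveI : Fintype F := Fintype.ofFinite _
    rw [Nat.card_eq_fintype_card, Fintype.card_subtype_compl, Fintype.card_subtype_eq]
  obtain ⟨f, hf⟩ := Equiv.Perm.exists_fixed_point_of_prime (hcard ▸ hdiv) hσ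
  refine ⟨f.1, f.1.2, fun h => f.2 (Subtype.ext h), ?_⟩
  have : g * (f.1 : G) * g⁻¹ = f.1 := congrArg (fun w => (w.1 : G)) hf
  exact mul_inv_eq_iff_eq_mul.1 this

variable {G : Type*} [Group G] [Finite G] {z : G} {A : Type*} [AddCommGroup A] {D : Eleven z A}

theorem toSet_two_pow {i j : ℕ} (hi : i < 24) (hj : j < 24) (hij : i ≠ j) :
    toSet (2 ^ i ^^^ 2 ^ j) = {pt i, pt j} := by
  rw [toSet_xor]
  have key : ∀ k, k < 24 → ∀ q, (q ∈ toSet (2 ^ k) ↔ q = pt k) := fun k hk q => by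
    rw [mem_toSet, Nat.testBit_two_pow, decide_eq_true_eq]
    exact ⟨fun h => by rw [h, pt_idx], fun h => by rw [h, idx_pt hk]⟩
  have hne : pt i ≠ pt j := fun h => hij (by rw [← idx_pt hi, h, idx_pt hj])
  ext q
  rw [Finset.mem_symmDiff, key i hi, key j hj, Finset.mem_insert, Finset.mem_singleton]
  constructor
  · rintro (⟨h, -⟩ | ⟨h, -⟩) <;> simp [h]
  · rintro (rfl | rfl)
    · exact Or.inl ⟨rfl, hne⟩
    · exact Or.inr ⟨rfl, fun h => hne h.symm⟩

theorem disp_k2 (D : Eleven z A) {w : G} (hw : w ∈ D.V) :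
    w * (k2 D * w * (k2 D)⁻¹) ∈ vSub D cBasis := by
  obtain ⟨m, hm, rfl⟩ := D.exists_vm hw
  have hr := rep_el packs.2.1
  refine spanList_induction
    (P := fun m => D.vm m * (k2 D * D.vm m * (k2 D)⁻¹) ∈ vSub D cBasis) ?_ (fun a ha => ?_)
    (fun a b ha hb => ?_) m hm
  · rw [D.vm_zero]; simp
  · have hev : Ev a := ev_vList (mem_spanList_self ha)
    rw [k2, D.L_vm hr hev, ← D.vm_xor]
    obtain ⟨b, hb, e⟩ := exists_memC D ev_check.2.2.2 (hev.xor (ev_of_rep hr hev))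
      (List.all_eq_true.1 lift_check.1 a ha)
    exact ⟨b, hb, e.symm⟩
  · have hka : k2 D * D.vm a * (k2 D)⁻¹ ∈ D.V := L_conj_mem D _ (D.vm_mem a)
    have e : D.vm a * D.vm b * (k2 D * (D.vm a * D.vm b) * (k2 D)⁻¹) =
        D.vm a * (D.vm b * (k2 D * D.vm a * (k2 D)⁻¹)) * (k2 D * D.vm b * (k2 D)⁻¹) := by group
    rw [D.vm_xor, e, V_comm D (D.vm_mem b) hka]
    have := mul_mem ha hb
    simpa [mul_assoc] using this

theorem du_notMem {j : ℕ} (hj : j < 24) (hjr : j ≠ rI) (hs : getP sP j = j) :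
    du D (pt rI) (pt j) ∉ vSub D cBasis := by
  rintro ⟨b, hb, e⟩
  have h := List.all_eq_true.1 lift_check.2 j (List.mem_range.2 hj)
  simp only [Bool.or_eq_true, Bool.not_eq_true', Nat.beq_eq] at h
  rcases h with (h | h) | h
  · exact hjr h
  · rw [← Bool.not_eq_true, Nat.beq_eq] at h; exact h hs
  · have hne : pt rI ≠ pt j := fun h' => hjr (by
      rw [← idx_pt hj, ← h', idx_pt point_check.2.2.1])
    have hset := toSet_two_pow point_check.2.2.1 hj (Ne.symm hjr)
    have hev : Ev (2 ^ rI ^^^ 2 ^ j) :=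
      ⟨Nat.xor_lt_two_pow (Nat.pow_lt_pow_right (by norm_num) point_check.2.2.1)
        (Nat.pow_lt_pow_right (by norm_num) hj), by rw [hset, Finset.card_pair hne]; decide⟩
    have e1 : D.vm (2 ^ rI ^^^ 2 ^ j) = du D (pt rI) (pt j) := by
      rw [Eleven.vm, hset, du_eq_S D hne]
    rw [← Bool.not_eq_true] at h
    refine h (List.any_eq_true.2 ⟨b, hb, D.inCode_of_vm_eq_one (hev.xor (ev_span ev_check.2.2.2 hb)) ?_⟩)
    show D.vm ((2 ^ rI ^^^ 2 ^ j) ^^^ b) = 1
    rw [D.vm_xor, e1, e, du_sq]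

variable (hS : Std D)
include hS

/-- the image in `M24` of an element centralising the element of order four -/
theorem pr_of_comm {e : G} (he : e * x4 D = x4 D * e) :
    e ∈ Subgroup.normalizer (D.V : Set G) ∧
      (pr D e : P24) * cfg.s = cfg.s * (pr D e : P24) ∧
      (((pr D e : P24) cfg.p = cfg.p ∧ (pr D e : P24) cfg.q = cfg.q) ∨
        ((pr D e : P24) cfg.p = cfg.q ∧ (pr D e : P24) cfg.q = cfg.p)) ∧
      (pr D e : P24) cfg.r = cfg.r := by
  have het : e * t0 D cfg = t0 D cfg * e := by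
    rw [← x4_sq, ← mul_assoc, he, mul_assoc, he, ← mul_assoc]
  have hN := cent_du hS cfg.hpq het
  have hpair := cent_du_pair hS cfg.hpq het
  have hprx : pr D (x4 D) = el sP := pr_vL D (du_mem D _ _) _
  have hxN : x4 D ∈ Subgroup.normalizer (D.V : Set G) := vL_mem D (du_mem D _ _) _
  have hs : (pr D e : P24) * cfg.s = cfg.s * (pr D e : P24) := by
    have := congrArg (fun w => (pr D w : P24)) he
    simp only [pr_mul D hN hxN, pr_mul D hxN hN, hprx, Subgroup.coe_mul] at this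
    exact this
  refine ⟨hN, hs, hpair, ?_⟩
  by_contra hne
  set σ := pr D e with hσ
  obtain ⟨w, hw, ew⟩ := eq_pr D hN
  set v := du D cfg.r cfg.p with hv
  have hvV : v ∈ D.V := du_mem D _ _
  have hσv : D.L σ * v * (D.L σ)⁻¹ = du D ((σ : P24) cfg.r) ((σ : P24) cfg.p) := by
    rw [du_conj D (D.L_mem σ), pr_L]
  have hkw : k2 D * w * (k2 D)⁻¹ ∈ D.V := L_conj_mem D _ hw
  have hcomm : D.L σ * k2 D = k2 D * D.L σ := by
    rw [k2, ← D.L_mul, ← D.L_mul]
    exact congrArg D.L (Subtype.ext hs)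
  have hmem : v * (D.L σ * v * (D.L σ)⁻¹) ∈ vSub D cBasis := by
    have h1 : w * (D.L σ * v * (D.L σ)⁻¹) = v * (k2 D * w * (k2 D)⁻¹) := by
      have h := he
      rw [ew, x4, ← hv] at h
      refine mul_right_cancel (b := D.L σ * k2 D) ?_
      calc w * (D.L σ * v * (D.L σ)⁻¹) * (D.L σ * k2 D) = w * D.L σ * (v * k2 D) := by group
        _ = v * k2 D * (w * D.L σ) := h
        _ = v * (k2 D * w * (k2 D)⁻¹) * (k2 D * D.L σ) := by group
        _ = _ := by rw [hcomm]
    have h2 : D.L σ * v * (D.L σ)⁻¹ = w * (v * (k2 D * w * (k2 D)⁻¹)) := by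
      rw [← h1, ← mul_assoc, V_sq D hw, one_mul]
    rw [h2, ← mul_assoc v w, V_comm D hvV hw, show w * v * (v * (k2 D * w * (k2 D)⁻¹)) =
      w * (v * v) * (k2 D * w * (k2 D)⁻¹) by group, V_sq D hvV, mul_one]
    exact disp_k2 D hw
  have hd : du D cfg.r ((σ : P24) cfg.r) ∈ vSub D cBasis := by
    rw [hσv, hv] at hmem
    rcases hpair with ⟨h1, -⟩ | ⟨h1, -⟩
    · rw [h1, du_symm D ((σ : P24) cfg.r) cfg.p, du_mul] at hmem
      exact hmem
    · have h3 : du D cfg.p cfg.q ∈ vSub D cBasis := by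
        have h := disp_k2 D hvV
        rwa [k2_conj_du, cfg.sr, cfg.sp, hv, du_symm D cfg.r cfg.p, du_mul] at h
      have e : du D cfg.r cfg.p * du D ((σ : P24) cfg.r) cfg.q * du D cfg.p cfg.q =
          du D cfg.r ((σ : P24) cfg.r) := by
        rw [mul_assoc, du_symm D cfg.p cfg.q, du_mul,
          V_comm D (du_mem D _ _) (du_mem D _ _), du_symm D cfg.r cfg.p,
          du_symm D ((σ : P24) cfg.r) cfg.p]
        rw [V_comm D (du_mem D _ _) (du_mem D _ _), du_symm D cfg.p cfg.r, du_mul]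
      rw [h1] at hmem
      exact e ▸ mul_mem hmem h3
  have hj : idx ((σ : P24) cfg.r) < 24 := idx_lt _
  refine du_notMem (D := D) hj (fun h => hne ?_) ?_ (by rw [pt_idx]; exact hd)
  · exact idx_injective (h.trans (idx_pt point_check.2.2.1).symm)
  · rw [← (rep_el packs.2.1).fix_iff hj, pt_idx]
    show cfg.s ((σ : P24) cfg.r) = _
    rw [← Equiv.Perm.mul_apply, ← hs, Equiv.Perm.mul_apply, cfg.sr]

variable {E : Subgroup G} (hE : Cfsg.IsElementaryAbelian 2 E) (hE8 : Nat.card E = 8)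
  (hY : Y D ∈ Subgroup.normalizer (E : Set G)) (hfree : ∀ e ∈ E, e * Y D = Y D * e → e = 1)
include hE hE8 hY hfree

theorem irreducible {F : Subgroup G} (hF : F ≤ E) (hYF : Y D ∈ Subgroup.normalizer (F : Set G)) :
    F = ⊥ ∨ F = E := by
  haveI : Fact (Nat.Prime 7) := ⟨by norm_num⟩
  by_contra h
  push Not at h
  obtain ⟨k, hk, e⟩ := (Nat.dvd_prime_pow Nat.prime_two).1
    (show Nat.card F ∣ 2 ^ 3 by rw [show (2 : ℕ) ^ 3 = 8 from rfl, ← hE8]; exact Subgroup.card_dvd_of_le hF)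
  have hk0 : k ≠ 0 := fun h0 => h.1 (Subgroup.card_eq_one.1 (by rw [e, h0]; rfl))
  have hk3 : k ≠ 3 := fun h0 => h.2 (Subgroup.eq_of_le_of_card_ge hF (by rw [e, h0, hE8]; norm_num))
  obtain ⟨f, hf, hf1, hc⟩ := exists_fixed (p := 7) (n := 1) hYF (by rw [pow_one]; exact Y_seven D)
    (by rw [e]; interval_cases k <;> first | omega | decide)
  exact hf1 (hfree f (hF hf) hc.symm)

theorem x4_centralizes (hx : x4 D ∈ Subgroup.normalizer (E : Set G)) :
    ∀ e ∈ E, e * x4 D = x4 D * e := by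
  haveI : Fact (Nat.Prime 2) := ⟨Nat.prime_two⟩
  obtain ⟨f, hf, hf1, hc⟩ := exists_fixed (p := 2) (n := 2) hx (x4_four D)
    (by rw [hE8]; norm_num)
  have hnorm : Y D ∈ Subgroup.normalizer
      ((E ⊓ Subgroup.centralizer ({x4 D} : Set G) : Subgroup G) : Set G) := by
    refine mem_normalizer_of_conj_le fun a ha =>
      ⟨(Subgroup.mem_normalizer_iff.1 hY a).1 ha.1, ?_⟩
    have h1 := Subgroup.mem_centralizer_singleton_iff.1 ha.2
    have hxY : x4 D * (Y D)⁻¹ = (Y D)⁻¹ * x4 D :=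
      (Commute.inv_right (show Commute (x4 D) (Y D) from x4_Y D)).eq
    refine Subgroup.mem_centralizer_singleton_iff.2 ?_
    calc Y D * a * (Y D)⁻¹ * x4 D = Y D * (a * x4 D) * (Y D)⁻¹ := by
          rw [mul_assoc _ ((Y D)⁻¹), ← hxY]; group
      _ = Y D * x4 D * a * (Y D)⁻¹ := by rw [h1]; group
      _ = _ := by rw [← x4_Y]; group
  rcases irreducible hS hE hE8 hY hfree inf_le_left hnorm with h | h
  · exact absurd ((Subgroup.eq_bot_iff_forall _).1 h f
      ⟨hf, Subgroup.mem_centralizer_singleton_iff.2 hc.symm⟩) hf1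
  · intro e he
    rw [← h] at he
    exact Subgroup.mem_centralizer_singleton_iff.1 he.2

theorem le_V (hx : x4 D ∈ Subgroup.normalizer (E : Set G)) :
    E ≤ D.V ∧ ∀ e ∈ E, e * k2 D = k2 D * e := by
  classical
  have hc := x4_centralizes hS hE hE8 hY hfree hx
  have hN : ∀ e ∈ E, e ∈ Subgroup.normalizer (D.V : Set G) := fun e he =>
    (pr_of_comm hS (hc e he)).1
  obtain ⟨⟨hcomm⟩, hexp⟩ := hE
  let B : Subgroup P24 :=
    { carrier := {σ | ∃ e ∈ E, (pr D e : P24) = σ}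
      one_mem' := ⟨1, one_mem _, by rw [pr_one]; rfl⟩
      mul_mem' := by
        rintro _ _ ⟨a, ha, rfl⟩ ⟨b, hb, rfl⟩
        exact ⟨a * b, mul_mem ha hb, by rw [pr_mul D (hN a ha) (hN b hb)]; rfl⟩
      inv_mem' := by
        rintro _ ⟨a, ha, rfl⟩
        exact ⟨a⁻¹, inv_mem ha, by rw [pr_inv D (hN a ha)]; rfl⟩ }
  have hBr : ∀ b ∈ B, b cfg.r = cfg.r := by
    rintro _ ⟨a, ha, rfl⟩; exact (pr_of_comm hS (hc a ha)).2.2.2
  have hBs : ∀ b ∈ B, b * cfg.s = cfg.s * b := by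
    rintro _ ⟨a, ha, rfl⟩; exact (pr_of_comm hS (hc a ha)).2.1
  have hBy : ∀ (i : ℕ), ∀ b ∈ B, cfg.y ^ i * b * (cfg.y ^ i)⁻¹ ∈ B := by
    intro i
    induction i with
    | zero => intro b hb; simpa using hb
    | succ i ih =>
      intro b hb
      obtain ⟨a, ha, e⟩ := ih b hb
      refine ⟨Y D * a * (Y D)⁻¹, (Subgroup.mem_normalizer_iff.1 hY a).1 ha, ?_⟩
      have hYN : Y D ∈ Subgroup.normalizer (D.V : Set G) := D.L_mem _
      rw [pr_mul D (mul_mem hYN (hN a ha)) (inv_mem hYN), pr_mul D hYN (hN a ha), pr_inv D hYN,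
        show pr D (Y D) = el yP from pr_L D _]
      simp only [Subgroup.coe_mul, InvMemClass.coe_inv, e]
      show cfg.y * (cfg.y ^ i * b * (cfg.y ^ i)⁻¹) * cfg.y⁻¹ = _
      rw [pow_succ']; group
  have hpres : ∀ b ∈ B, ∀ x ∈ cfg.O, b x ∈ cfg.O := by
    intro b hb x hx'
    rw [cfg.mem_O] at hx' ⊢
    rw [← Equiv.Perm.mul_apply, ← hBs b hb, Equiv.Perm.mul_apply, hx']
  have hB2 : ∀ b ∈ B, b = 1 ∨ b = cfg.s := by
    haveI : Fact (Nat.Prime 2) := ⟨Nat.prime_two⟩
    have hp : IsPGroup 2 B := by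
      rintro ⟨_, a, ha, rfl⟩
      refine ⟨1, Subtype.ext ?_⟩
      show ((pr D a : P24)) ^ (2 ^ 1) = 1
      rw [pow_one, pow_two, ← Subgroup.coe_mul, ← pr_mul D (hN a ha) (hN a ha), ← pow_two,
        hexp a ha, pr_one]
      rfl
    let X : SubMulAction B GolayPt :=
      { carrier := {x | x ∈ cfg.O ∧ x ≠ cfg.r}
        smul_mem' := by
          rintro ⟨b, hb⟩ x ⟨hx', hxr⟩
          exact ⟨hpres b hb x hx', fun e => hxr (b.injective (e.trans (hBr b hb).symm))⟩ }
    have hX : Nat.card X = 7 := by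
      show Nat.card {x // x ∈ cfg.O ∧ x ≠ cfg.r} = 7
      rw [Nat.card_congr (Equiv.subtypeEquivRight (p := fun x => x ∈ cfg.O ∧ x ≠ cfg.r)
        (q := fun x => x ∈ cfg.O.erase cfg.r) fun x => by rw [Finset.mem_erase]; tauto),
        Nat.card_eq_fintype_card, Fintype.card_coe, Finset.card_erase_of_mem cfg.r_mem,
        card_octad cfg.O_octad]
    obtain ⟨⟨x, hx', hxr⟩, hfx⟩ :=
      hp.nonempty_fixed_point_of_prime_not_dvd_card X (by rw [hX]; norm_num)
    have hfix : ∀ b ∈ B, b x = x := fun b hb => congrArg Subtype.val (hfx ⟨b, hb⟩)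
    intro b hb
    have hO : ∀ w ∈ cfg.O, b w = w := cfg.fix_O_of_fix (hBr b hb) hx' hxr fun i => by
      have h7 : (cfg.y ^ i)⁻¹ = cfg.y ^ (6 * i) := by
        rw [inv_eq_iff_mul_eq_one, ← pow_add, show i + 6 * i = 7 * i by ring, pow_mul, cfg.y7,
          one_pow]
      have h1 := hfix _ (hBy (6 * i) b hb)
      rw [← h7, inv_inv] at h1
      simp only [Equiv.Perm.mul_apply, Equiv.Perm.inv_def, Equiv.symm_apply_eq] at h1
      exact h1
    obtain ⟨a, ha, rfl⟩ := hb
    rcases (pr_of_comm hS (hc a ha)).2.2.1 with ⟨h1, -⟩ | ⟨h1, -⟩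
    · exact Or.inl (eq_one_of_fixM24_fix cfg.O_octad (mem_fixM24.2 ⟨(pr D a).2, hO⟩) cfg.p_notMem h1)
    · right
      have h2 := eq_one_of_fixM24_fix cfg.O_octad
        (mem_fixM24.2 ⟨mul_mem cfg.hs (pr D a).2, fun w hw => by
          rw [Equiv.Perm.mul_apply, hO w hw]; exact cfg.mem_O.1 hw⟩) cfg.p_notMem
        (by rw [Equiv.Perm.mul_apply, h1, cfg.sq])
      rw [mul_eq_one_iff_inv_eq] at h2
      rw [← h2]
      exact inv_eq_of_mul_eq_one_right cfg.s2
  have hnorm : Y D ∈ Subgroup.normalizer ((E ⊓ D.V : Subgroup G) : Set G) :=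
    mem_normalizer_of_conj_le fun a ha => ⟨(Subgroup.mem_normalizer_iff.1 hY a).1 ha.1,
      (Subgroup.mem_normalizer_iff.1 (D.L_mem _) a).1 ha.2⟩
  have hle : E ≤ D.V := by
    rcases irreducible hS ⟨⟨hcomm⟩, hexp⟩ hE8 hY hfree inf_le_left hnorm with h | h
    · exfalso
      have hinj : Function.Injective fun a : E =>
          (⟨(pr D (a : G) : P24), (a : G), a.2, rfl⟩ : B) := by
        intro a b hab
        have h1 : pr D (a : G) = pr D (b : G) := Subtype.ext (congrArg (fun w : B => (w : P24)) hab)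
        have hd : (a : G)⁻¹ * b ∈ E ⊓ D.V := ⟨E.mul_mem (E.inv_mem a.2) b.2,
          mem_V_of_pr D (mul_mem (inv_mem (hN _ a.2)) (hN _ b.2))
            (by rw [pr_mul D (inv_mem (hN _ a.2)) (hN _ b.2), pr_inv D (hN _ a.2), h1,
              inv_mul_cancel])⟩
        rw [h, Subgroup.mem_bot, inv_mul_eq_one] at hd
        exact Subtype.ext hd
      have h1 := Nat.card_le_card_of_injective _ hinj
      have h2 : Nat.card B ≤ 2 := by
        have hsub : (B : Set P24) ⊆ {1, cfg.s} := fun b hb => by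
          rcases hB2 b hb with rfl | rfl <;> simp
        calc Nat.card B = (B : Set P24).ncard := (Nat.card_coe_set_eq _)
          _ ≤ ({1, cfg.s} : Set P24).ncard := Set.ncard_le_ncard hsub (Set.toFinite _)
          _ ≤ ({cfg.s} : Set P24).ncard + 1 := Set.ncard_insert_le _ _
          _ = 2 := by rw [Set.ncard_singleton]
      omega
    · exact h ▸ inf_le_right
  refine ⟨hle, fun e he => ?_⟩
  have h := hc e he
  rw [x4, ← mul_assoc, V_comm D (hle he) (du_mem D _ _), mul_assoc, mul_assoc] at h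
  exact mul_left_cancel h

theorem eq_Zs (hx : x4 D ∈ Subgroup.normalizer (E : Set G))
    (hr : ∀ e ∈ E, e * r3 D = r3 D * e) : E = Zs D := by
  obtain ⟨hle, hk⟩ := le_V hS hE hE8 hY hfree hx
  refine Subgroup.eq_of_le_of_card_ge (fun e he => ?_) (by rw [card_Zs, hE8])
  obtain ⟨m, hm, rfl⟩ := D.exists_vm (hle he)
  have hev := ev_vList hm
  have h1 : fixC sP m = true := (fixC_iff D (rep_el packs.2.1) hev).2
    (mul_inv_eq_iff_eq_mul.2 (hk _ he).symm)
  have h2 : fixC rhoP m = true := (fixC_iff D (rep_el packs.2.2.1) hev).2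
    (mul_inv_eq_iff_eq_mul.2 (hr _ he).symm)
  have h := List.all_eq_true.1 fix_check m hm
  rw [h1, h2] at h
  obtain ⟨b, hb, e⟩ := exists_memC D ev_check.1 hev (by simpa [zList] using h)
  exact ⟨b, hb, e.symm⟩

end CfsgLib.Spor.JankoFourPentad
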