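import Cfsg.Agent.Lib.Spor.JankoFourPentad.Core
import Cfsg.Agent.Lib.Spor.JankoFourSeven.Final

/-!
The centraliser of the element of order seven fixing the trio: its factor isomorphic to the
symmetric group of degree five and the element of order four above a duad vector.
-/

set_option autoImplicit false
set_option maxRecDepth 100000
set_option linter.unusedSectionVars false

namespace CfsgLib.Spor.JankoFourPentad

open Cfsg CfsgLib.Spor CfsgLib.Spor.JankoFourCentral CfsgLib.Spor.JankoFourSeven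
open scoped Pointwise symmDiff

theorem h_check :
    Nat.beq (compP hP sP) (compP sP hP) = true ∧ getP hP pI = pI ∧ getP hP qI = qI ∧
    Nat.beq (compP rhoP sP) (compP (compP sP rhoP) rhoP) = true := by
  decide +kernel

theorem pt_eval {a : ℕ} (ha : RepIn M24 a) {i j : ℕ} (hi : i < 24) (e : getP a i = j) :
    ((el a : M24) : Equiv.Perm GolayPt) (pt i) = pt j := by
  rw [← e, rep_el ha i hi, pt_idx]

theorem el_comm {a b : ℕ} (ha : RepIn M24 a) (hb : RepIn M24 b)
    (h : Nat.beq (compP a b) (compP b a) = true) : el a * el b = el b * el a := by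
  rw [← el_mul ha hb, Nat.eq_of_beq_eq_true h, el_mul hb ha]

theorem el_s_sq : el sP * el sP = 1 := by
  rw [← el_mul packs.2.1 packs.2.1, Nat.eq_of_beq_eq_true rel_check.1, el_eP]

theorem el_hy : el hP * el yP * (el hP)⁻¹ = el yP * el yP := by
  have h := congrArg el (Nat.eq_of_beq_eq_true rel_check.2.2.2.2.2.1)
  rw [el_mul packs.2.2.2.2.2 packs.1, el_mul (packs.1.comp packs.1) packs.2.2.2.2.2,
    el_mul packs.1 packs.1] at h
  rw [h, mul_inv_cancel_right]

theorem yfix_iff (x : GolayPt) :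
    ((el yP : M24) : Equiv.Perm GolayPt) x = x ↔ x = pt pI ∨ x = pt qI ∨ x = pt rI := by
  obtain ⟨hp, hq, hr, -, -, -, hfix, -⟩ := point_check
  have h := List.all_eq_true.1 hfix (idx x) (List.mem_range.2 (idx_lt x))
  rw [beq_iff_eq, Bool.eq_iff_iff, Nat.beq_eq] at h
  simp only [Bool.or_eq_true, Nat.beq_eq] at h
  have hx : ((el yP : M24) : Equiv.Perm GolayPt) x = x ↔ getP yP (idx x) = idx x := by
    rw [← (rep_el packs.1).fix_iff (idx_lt x), pt_idx]
  have hi : ∀ j, j < 24 → (x = pt j ↔ idx x = j) := fun j hj =>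
    ⟨fun e => by rw [e, idx_pt hj], fun e => by rw [← e, pt_idx]⟩
  rw [hx, hi _ hp, hi _ hq, hi _ hr, h, or_assoc]

/-- the configuration of the trio -/
noncomputable def cfg : Cfg where
  y := (el yP : M24)
  s := (el sP : M24)
  h := (el hP : M24)
  p := pt pI
  q := pt qI
  r := pt rI
  hy := (el yP).2
  hs := (el sP).2
  hh := (el hP).2
  y7 := by rw [← Subgroup.coe_pow, el_y_seven]; rfl
  yfix := yfix_iff
  hpq := by decide +kernel
  hrp := by decide +kernel
  hrq := by decide +kernel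
  s2 := congrArg Subtype.val el_s_sq
  sp := pt_eval packs.2.1 point_check.1 point_check.2.2.2.2.2.2.2.1
  sq := pt_eval packs.2.1 point_check.2.1 point_check.2.2.2.2.2.2.2.2.1
  sr := pt_eval packs.2.1 point_check.2.2.1 point_check.2.2.2.2.2.2.2.2.2.1
  sy := congrArg Subtype.val (el_comm packs.2.1 packs.1 rel_check.2.2.1)
  hyh := congrArg Subtype.val el_hy
  hsh := congrArg Subtype.val (el_comm packs.2.2.2.2.2 packs.2.1 h_check.1)
  hp := pt_eval packs.2.2.2.2.2 point_check.1 h_check.2.1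
  hq := pt_eval packs.2.2.2.2.2 point_check.2.1 h_check.2.2.1

variable {G : Type*} [Group G] [Finite G] {z : G} {A : Type*} [AddCommGroup A] (D : Eleven z A)

/-- the lift of the involution -/
noncomputable def k2 : G := D.L (el sP)

/-- the lift of the element of order three -/
noncomputable def r3 : G := D.L (el rhoP)

/-- an element of order four above a duad vector -/
noncomputable def x4 : G := du D cfg.r cfg.p * k2 D

/-- the subgroup of order seven -/
noncomputable def S7g : Subgroup G := Subgroup.zpowers (Y D)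

theorem Y_eq : Y D = JankoFourSeven.Y D cfg := rfl

theorem k2_eq : k2 D = kk D cfg := rfl

theorem k2_sq : k2 D * k2 D = 1 := by rw [k2, ← D.L_mul, el_s_sq, D.L_one]

theorem k2_inv : (k2 D)⁻¹ = k2 D := inv_eq_of_mul_eq_one_right (k2_sq D)

theorem k2_Y : k2 D * Y D = Y D * k2 D := by
  rw [k2, Y, ← D.L_mul, ← D.L_mul, el_comm packs.2.1 packs.1 rel_check.2.2.1]

theorem r3_Y : r3 D * Y D = Y D * r3 D := by
  rw [r3, Y, ← D.L_mul, ← D.L_mul, el_comm packs.2.2.1 packs.1 rel_check.2.2.2.1]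

theorem r3_cube : r3 D ^ 3 = 1 := by
  have h := congrArg el (Nat.eq_of_beq_eq_true rel_check.2.1)
  rw [el_mul packs.2.2.1 (packs.2.2.1.comp packs.2.2.1), el_mul packs.2.2.1 packs.2.2.1, el_eP] at h
  rw [r3, ← L_pow, pow_succ, pow_two, mul_assoc, h, D.L_one]

theorem du_Y {a b : GolayPt} (ha : a = cfg.p ∨ a = cfg.q ∨ a = cfg.r)
    (hb : b = cfg.p ∨ b = cfg.q ∨ b = cfg.r) : Y D * du D a b = du D a b * Y D :=
  du_comm_of D (JankoFourSeven.Y_mem D cfg) (Or.inl (by
    rw [pr_Y D cfg]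
    exact ⟨(cfg.yfix _).2 ha, (cfg.yfix _).2 hb⟩))

theorem x4_Y : x4 D * Y D = Y D * x4 D := by
  rw [x4, mul_assoc, k2_Y, ← mul_assoc, ← du_Y D (Or.inr (Or.inr rfl)) (Or.inl rfl), mul_assoc]

theorem k2_conj_du (a b : GolayPt) :
    k2 D * du D a b * (k2 D)⁻¹ = du D (cfg.s a) (cfg.s b) := by
  rw [show k2 D = kk D cfg from rfl, du_conj D (kk_mem D cfg), pr_kk]

theorem x4_sq : x4 D * x4 D = t0 D cfg := by
  have h := k2_conj_du D cfg.r cfg.p
  rw [cfg.sr, cfg.sp, k2_inv] at h
  calc x4 D * x4 D = du D cfg.r cfg.p * (k2 D * du D cfg.r cfg.p * k2 D) := by rw [x4]; group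
    _ = du D cfg.p cfg.q := by rw [h, du_symm D cfg.r cfg.p, du_mul]
    _ = t0 D cfg := rfl

theorem x4_sq_ne : x4 D * x4 D ≠ 1 := by rw [x4_sq]; exact du_ne_one D cfg.hpq

theorem x4_four : x4 D ^ 4 = 1 := by
  rw [show (4 : ℕ) = 2 * 2 by norm_num, pow_mul, pow_two (x4 D), x4_sq, pow_two]
  exact du_sq D _ _

theorem x4_conj : k2 D * x4 D * k2 D = (x4 D)⁻¹ := by
  rw [x4, mul_inv_rev, k2_inv, V_inv D (du_mem D _ _), mul_assoc, mul_assoc, k2_sq, mul_one]

theorem card_S7g : Nat.card (S7g D) = 7 := JankoFourSeven.card_S7 D cfg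

variable {D} (hS : Std D)
include hS

/-- the centraliser and normaliser of the subgroup of order seven -/
theorem seven_facts :
    ¬ 49 ∣ Nat.card G ∧ Nat.card ↥(Subgroup.centralizer (S7g D : Set G)) = 840 ∧
    Nat.card ↥(Subgroup.normalizer (S7g D : Set G)) = 2520 ∧
    ∃ I : Subgroup G, Nat.card I = 120 ∧ Nonempty (I ≃* Equiv.Perm (Fin 5)) ∧
      (∀ c, c ∈ I → c * Y D = Y D * c) ∧
      (∀ c : G, c * Y D = Y D * c → ∃ s ∈ S7g D, ∃ i ∈ I, c = s * i) ∧
      (∀ c : G, c * Y D = Y D * c → c ^ 120 = 1 → c ∈ I) := by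
  obtain ⟨g, hg⟩ := isConj_iff.1 (isConj_kk cfg hS).symm
  have hSk : S7g D ≤ Subgroup.centralizer ({kk D cfg} : Set G) :=
    S7_le_cent D cfg (kk_Y D cfg).symm
  let S' := (S7g D).map (MulAut.conj g).toMonoidHom
  have hS' : S' ≤ Subgroup.centralizer ({z} : Set G) := by
    rw [← hg, ← map_cent_singleton]; exact Subgroup.map_mono hSk
  have hinj : Function.Injective (MulAut.conj g).toMonoidHom := (MulAut.conj g).injective
  have hS7 : Nat.card S' = 7 := by rw [Subgroup.card_map_of_injective hinj, card_S7g]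
  obtain ⟨h49, ⟨I', ⟨hI1, hI2, hcomm, hinf, hsup⟩, ⟨e⟩⟩, hN3, hN⟩ :=
    seven_local_of_std hS S' hS7 hS'
  have hCc : Nat.card ↥(Subgroup.centralizer (S7g D : Set G)) = 840 := by
    rw [← Subgroup.card_map_of_injective hinj, map_cent]
    change Nat.card ↥(Subgroup.centralizer (S' : Set G)) = 840
    omega
  have hNc : Nat.card ↥(Subgroup.normalizer (S7g D : Set G)) = 2520 := by
    have h : Nat.card ↥((Subgroup.normalizer (S7g D : Set G)).map (MulAut.conj g).toMonoidHom) =
        Nat.card ↥(Subgroup.normalizer (S7g D : Set G)) := Subgroup.card_map_of_injective hinj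
    rw [Subgroup.map_equiv_normalizer_eq] at h
    rw [← h]
    exact hN.trans (by norm_num)
  let I := I'.map (MulAut.conj g⁻¹).toMonoidHom
  have hIc : Nat.card I = 120 := by
    rw [Subgroup.card_map_of_injective (MulAut.conj g⁻¹).injective, Nat.card_congr e.toEquiv,
      Nat.card_perm, Nat.card_fin]
    rfl
  have hmemI : ∀ c, c ∈ I ↔ g * c * g⁻¹ ∈ I' := fun c => by
    rw [Subgroup.mem_map_equiv, MulAut.conj_symm_apply, inv_inv]
  have hY : g * Y D * g⁻¹ ∈ S' := ⟨Y D, Subgroup.mem_zpowers _, rfl⟩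
  have hsplit : ∀ c : G, c * Y D = Y D * c →
      ∃ a ∈ S', ∃ b ∈ I', g * c * g⁻¹ = a * b := by
    intro c hc
    have h : g * c * g⁻¹ ∈ Subgroup.centralizer (S' : Set G) := by
      change g * c * g⁻¹ ∈
        Subgroup.centralizer (((S7g D).map (MulAut.conj g).toMonoidHom : Subgroup G) : Set G)
      rw [← map_cent]
      exact ⟨c, mem_cent_S7 cfg hc, rfl⟩
    rw [← hsup] at h
    have hle : I' ≤ Subgroup.normalizer (S' : Set G) :=
      hI2.trans (Subgroup.centralizer_le_normalizer _)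
    have h' : g * c * g⁻¹ ∈ (↑(S' ⊔ I') : Set G) := h
    rw [Subgroup.coe_mul_of_right_le_normalizer_left _ _ hle] at h'
    obtain ⟨a, ha, b, hb, eab⟩ := h'
    exact ⟨a, ha, b, hb, eab.symm⟩
  refine ⟨h49, hCc, hNc, I, hIc, ⟨(I'.equivMapOfInjective _
    (MulAut.conj g⁻¹).injective).symm.trans e⟩, fun c hc => ?_, fun c hc => ?_, fun c hc h120 => ?_⟩
  · have h := hcomm _ hY _ ((hmemI c).1 hc)
    calc c * Y D = g⁻¹ * (g * c * g⁻¹ * (g * Y D * g⁻¹)) * g := by group
      _ = g⁻¹ * (g * Y D * g⁻¹ * (g * c * g⁻¹)) * g := by rw [h]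
      _ = _ := by group
  · obtain ⟨a, ha, b, hb, eab⟩ := hsplit c hc
    obtain ⟨s, hs, rfl⟩ := Subgroup.mem_map.1 ha
    refine ⟨s, hs, g⁻¹ * b * g, (hmemI _).2 (by simpa [mul_assoc] using hb), ?_⟩
    have : c = g⁻¹ * (g * c * g⁻¹) * g := by group
    rw [this, eab]
    show g⁻¹ * (g * s * g⁻¹ * b) * g = s * (g⁻¹ * b * g)
    group
  · obtain ⟨a, ha, b, hb, eab⟩ := hsplit c hc
    rw [hmemI, eab]
    have hab : Commute a b := hcomm a ha b hb
    have hb120 : b ^ 120 = 1 := by
      have h : (⟨b, hb⟩ : I') ^ Nat.card I' = 1 := pow_card_eq_one'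
      rw [show Nat.card I' = 120 by
        rw [Nat.card_congr e.toEquiv, Nat.card_perm, Nat.card_fin]; rfl] at h
      exact congrArg Subtype.val h
    have h1 : (g * c * g⁻¹) ^ 120 = 1 := by rw [conj_pow, h120, mul_one, mul_inv_cancel]
    rw [eab, hab.mul_pow, hb120, mul_one] at h1
    have h7 : a ^ 7 = 1 := by
      have h : (⟨a, ha⟩ : S') ^ Nat.card S' = 1 := pow_card_eq_one'
      rw [hS7] at h
      exact congrArg Subtype.val h
    have : a = 1 := by
      rw [← orderOf_eq_one_iff]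
      exact Nat.dvd_one.1 (Nat.dvd_gcd (orderOf_dvd_of_pow_eq_one h1)
        (orderOf_dvd_of_pow_eq_one h7))
    rw [this, one_mul]; exact hb

end CfsgLib.Spor.JankoFourPentad
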