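import Cfsg.Agent.Lib.Spor.JankoFourPentad.Checks
import Cfsg.Agent.Lib.Spor.JankoFourSeven.Basic

/-!
The subgroups attached to a trio inside the normaliser of the elementary abelian subgroup of order
`2^11` in a group of Janko-four type: the three-dimensional subspace, the subgroup of order `2^15`
and the complement of order `168`.
-/

set_option autoImplicit false
set_option maxRecDepth 100000

namespace CfsgLib.Spor.JankoFourPentad

open Cfsg CfsgLib.Spor CfsgLib.Spor.JankoFourCentral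
open scoped Pointwise symmDiff

open Classical in
/-- the element of `M24` with a given packed form -/
noncomputable def el (a : ℕ) : M24 :=
  if h : RepIn M24 a then ⟨Classical.choose h, (Classical.choose_spec h).1⟩ else 1

theorem rep_el {a : ℕ} (h : RepIn M24 a) : Rep ((el a : M24) : Equiv.Perm GolayPt) a := by
  rw [el, dif_pos h]; exact (Classical.choose_spec h).2

theorem el_eq {a : ℕ} {σ : M24} (h : Rep (σ : Equiv.Perm GolayPt) a) : el a = σ :=
  Subtype.ext ((rep_el ⟨σ, σ.2, h⟩).inj h)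

theorem el_mul {a b : ℕ} (ha : RepIn M24 a) (hb : RepIn M24 b) :
    el (compP a b) = el a * el b :=
  el_eq (by rw [Subgroup.coe_mul]; exact (rep_el ha).mul (rep_el hb))

theorem el_eP : el eP = 1 := el_eq rep_one

theorem repIn_eP : RepIn M24 eP := RepIn.one _

theorem repIn_of_check {a : ℕ} (h : isM24P a = true) : RepIn M24 a := exists_rep_M24 h

theorem el_inj {a b : ℕ} (ha : RepIn M24 a) (hb : RepIn M24 b) (h : el a = el b)
    {i : ℕ} (hi : i < 24) : getP a i = getP b i := by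
  rw [rep_el ha i hi, rep_el hb i hi, h]

theorem packs : RepIn M24 yP ∧ RepIn M24 sP ∧ RepIn M24 rhoP ∧ RepIn M24 w0P ∧ RepIn M24 y2P ∧
    RepIn M24 hP := by
  have h := m24_check.1
  simp only [Bool.and_eq_true] at h
  obtain ⟨⟨⟨⟨⟨h1, h2⟩, h3⟩, h4⟩, h5⟩, h6⟩ := h
  exact ⟨repIn_of_check h1, repIn_of_check h2, repIn_of_check h3, repIn_of_check h4,
    repIn_of_check h5, repIn_of_check h6⟩

theorem repIn_uMask {a : ℕ} (h : a ∈ uMasks) : RepIn M24 a :=
  repIn_of_check (List.all_eq_true.1 m24_check.2.1 a h)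

theorem repIn_uSpan : ∀ (l : List ℕ), (∀ a ∈ l, RepIn M24 a) → ∀ u ∈ uSpan l, RepIn M24 u := by
  intro l
  induction l with
  | nil => intro _ u hu; rw [uSpan, List.mem_singleton] at hu; exact hu ▸ repIn_eP
  | cons b bs ih =>
    intro hl u hu
    have ih' := ih fun a ha => hl a (List.mem_cons_of_mem _ ha)
    rw [uSpan, List.mem_append, List.mem_map] at hu
    rcases hu with hu | ⟨v, hv, rfl⟩
    · exact ih' u hu
    · exact (hl b (List.mem_cons_self)).comp (ih' v hv)

theorem repIn_uList {u : ℕ} (h : u ∈ uList) : RepIn M24 u :=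
  repIn_uSpan _ (fun _ => repIn_uMask) u h

theorem repIn_wList {a : ℕ} (h : a ∈ wList') : RepIn M24 a :=
  repIn_of_check (List.all_eq_true.1 m24_check.2.2 a h)

theorem el_uSpan_mem {l : List ℕ} (hl : ∀ a ∈ l, RepIn M24 a) :
    ∀ u ∈ uSpan l, el u ∈ Subgroup.closure (el '' {a | a ∈ l}) := by
  induction l with
  | nil => intro u hu; rw [uSpan, List.mem_singleton] at hu; rw [hu, el_eP]; exact one_mem _
  | cons b bs ih =>
    intro u hu
    have hl' : ∀ a ∈ bs, RepIn M24 a := fun a ha => hl a (List.mem_cons_of_mem _ ha)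
    have hmono : Subgroup.closure (el '' {a | a ∈ bs}) ≤
        Subgroup.closure (el '' {a | a ∈ b :: bs}) :=
      Subgroup.closure_mono (Set.image_mono fun a ha => List.mem_cons_of_mem _ ha)
    rw [uSpan, List.mem_append, List.mem_map] at hu
    rcases hu with hu | ⟨v, hv, rfl⟩
    · exact hmono (ih hl' u hu)
    · rw [el_mul (hl b List.mem_cons_self) (repIn_uSpan bs hl' v hv)]
      exact mul_mem (Subgroup.subset_closure ⟨b, List.mem_cons_self, rfl⟩) (hmono (ih hl' v hv))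

/-- the permutation part -/
noncomputable def U : Subgroup M24 := Subgroup.closure (el '' {a | a ∈ uMasks})

theorem el_uMask_mem {a : ℕ} (h : a ∈ uMasks) : el a ∈ U := Subgroup.subset_closure ⟨a, h, rfl⟩

theorem el_uMask_sq {a : ℕ} (h : a ∈ uMasks) : el a * el a = 1 := by
  have h2 := List.all_eq_true.1 u_check.2.1 a h
  rw [← el_mul (repIn_uMask h) (repIn_uMask h), Nat.eq_of_beq_eq_true h2, el_eP]

theorem mem_U_iff {σ : M24} : σ ∈ U ↔ ∃ u ∈ uList, el u = σ := by
  refine ⟨fun h => ?_, fun ⟨u, hu, e⟩ => e ▸ el_uSpan_mem (fun _ => repIn_uMask) u hu⟩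
  induction h using Subgroup.closure_induction_left with
  | one => exact ⟨eP, by decide +kernel, el_eP⟩
  | mul_left x hx y _ ih =>
    obtain ⟨a, ha, rfl⟩ := hx
    obtain ⟨u, hu, rfl⟩ := ih
    have h := List.all_eq_true.1 (List.all_eq_true.1 span_check.2.2.2.2 a ha) u hu
    obtain ⟨b, hb, e⟩ := List.any_eq_true.1 h
    exact ⟨b, hb, by rw [← el_mul (repIn_uMask ha) (repIn_uList hu), Nat.eq_of_beq_eq_true e]⟩
  | inv_mul_cancel x hx y _ ih =>
    obtain ⟨a, ha, rfl⟩ := hx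
    obtain ⟨u, hu, rfl⟩ := ih
    have h := List.all_eq_true.1 (List.all_eq_true.1 span_check.2.2.2.2 a ha) u hu
    obtain ⟨b, hb, e⟩ := List.any_eq_true.1 h
    rw [inv_eq_of_mul_eq_one_right (el_uMask_sq ha)]
    exact ⟨b, hb, by rw [← el_mul (repIn_uMask ha) (repIn_uList hu), Nat.eq_of_beq_eq_true e]⟩

theorem spanList_xor : ∀ (l : List ℕ) {a b : ℕ}, a ∈ spanList l → b ∈ spanList l →
    a ^^^ b ∈ spanList l := by
  intro l
  induction l with
  | nil => intro a b ha hb; simp only [spanList, List.mem_singleton] at *; subst ha hb; rfl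
  | cons x xs ih =>
    intro a b ha hb
    simp only [spanList, List.mem_append, List.mem_map] at *
    rcases ha with ha | ⟨a', ha, rfl⟩ <;> rcases hb with hb | ⟨b', hb, rfl⟩
    · exact Or.inl (ih ha hb)
    · exact Or.inr ⟨a ^^^ b', ih ha hb, by rw [← Nat.xor_assoc, Nat.xor_comm x a, Nat.xor_assoc]⟩
    · exact Or.inr ⟨a' ^^^ b, ih ha hb, by rw [Nat.xor_assoc]⟩
    · refine Or.inl ?_
      have e : (x ^^^ a') ^^^ (x ^^^ b') = a' ^^^ b' := by
        rw [Nat.xor_comm x a', Nat.xor_assoc, ← Nat.xor_assoc x x, Nat.xor_self, Nat.zero_xor]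
      rw [e]; exact ih ha hb

theorem mem_spanList_self : ∀ {l : List ℕ} {a : ℕ}, a ∈ l → a ∈ spanList l := by
  intro l
  induction l with
  | nil => intro a ha; simp at ha
  | cons x xs ih =>
    intro a ha
    simp only [spanList, List.mem_append, List.mem_map]
    have h0 : 0 ∈ spanList xs := by
      clear ih ha
      induction xs with
      | nil => simp [spanList]
      | cons y ys ih => simp only [spanList, List.mem_append]; exact Or.inl ih
    rcases List.mem_cons.1 ha with rfl | ha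
    · exact Or.inr ⟨0, h0, Nat.xor_zero _⟩
    · exact Or.inl (ih ha)

theorem zero_mem_spanList : ∀ l : List ℕ, 0 ∈ spanList l := by
  intro l
  induction l with
  | nil => simp [spanList]
  | cons y ys ih => simp only [spanList, List.mem_append]; exact Or.inl ih

theorem ev_span {l : List ℕ} (hl : l.all evB = true) {a : ℕ} (ha : a ∈ spanList l) : Ev a := by
  refine spanList_induction (P := Ev) ev_zero (fun b hb => ?_) (fun a b ha hb => ha.xor hb) a ha
  have h := List.all_eq_true.1 hl b hb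
  simp only [evB, Bool.and_eq_true, Nat.blt_eq, Nat.beq_eq] at h
  exact ev_of_check h.1 h.2

theorem ev_zList {a : ℕ} (h : a ∈ zList) : Ev a := ev_span ev_check.1 h

theorem ev_v9 {a : ℕ} (h : a ∈ v9List) : Ev a := ev_span ev_check.2.1 h

theorem ev_vMask {a : ℕ} (h : a ∈ vMasks) : Ev a := ev_v9 (mem_spanList_self h)

theorem ev_zGen {a : ℕ} (h : a ∈ zGens) : Ev a := ev_zList (mem_spanList_self h)

variable {G : Type*} [Group G] [Finite G] {z : G} {A : Type*} [AddCommGroup A] (D : Eleven z A)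

theorem exists_memC {l : List ℕ} (hl : l.all evB = true) {a : ℕ} (ha : Ev a)
    (h : memC (spanList l) a = true) : ∃ b ∈ spanList l, D.vm a = D.vm b := by
  obtain ⟨b, hb, e⟩ := List.any_eq_true.1 h
  exact ⟨b, hb, D.vm_eq ha (ev_span hl hb) e⟩

theorem fixC_iff {g m : ℕ} {σ : M24} (hr : Rep (σ : Equiv.Perm GolayPt) g) (hm : Ev m) :
    fixC g m = true ↔ D.L σ * D.vm m * (D.L σ)⁻¹ = D.vm m := by
  rw [D.L_vm hr hm]
  constructor
  · intro h
    refine D.vm_eq (ev_of_rep hr hm) hm ?_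
    rw [Nat.xor_comm]; exact h
  · intro h
    refine D.inCode_of_vm_eq_one (hm.xor (ev_of_rep hr hm)) ?_
    show D.vm (m ^^^ actP g m) = 1
    rw [D.vm_xor, h, D.vm_sq]

/-- the subgroup of vectors spanned by a list of masks -/
def vSub (l : List ℕ) : Subgroup G where
  carrier := {g | ∃ w ∈ spanList l, D.vm w = g}
  one_mem' := ⟨0, zero_mem_spanList l, D.vm_zero⟩
  mul_mem' := by
    rintro _ _ ⟨a, ha, rfl⟩ ⟨b, hb, rfl⟩
    exact ⟨a ^^^ b, spanList_xor l ha hb, D.vm_xor a b⟩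
  inv_mem' := by
    rintro _ ⟨a, ha, rfl⟩
    exact ⟨a, ha, (D.vm_inv a).symm⟩

theorem vSub_le_V (l : List ℕ) : vSub D l ≤ D.V := by
  rintro _ ⟨w, -, rfl⟩; exact D.vm_mem w

theorem vm_mem_vSub {l : List ℕ} {a : ℕ} (h : a ∈ l) : D.vm a ∈ vSub D l :=
  ⟨a, mem_spanList_self h, rfl⟩

theorem vSub_le {l : List ℕ} {H : Subgroup G} (h : ∀ a ∈ l, D.vm a ∈ H) : vSub D l ≤ H := by
  rintro _ ⟨w, hw, rfl⟩
  exact spanList_induction (P := fun w => D.vm w ∈ H) (by rw [D.vm_zero]; exact one_mem _) h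
    (fun a b ha hb => by rw [D.vm_xor]; exact mul_mem ha hb) w hw

/-- the three-dimensional subspace -/
def Zs : Subgroup G := vSub D zGens

/-- the vector part of the subgroup of order `2^15` -/
def V9 : Subgroup G := vSub D vMasks

/-- the embedding of `M24` by the complement -/
noncomputable def Lhom : M24 →* G := MonoidHom.mk' D.L D.L_mul

theorem Lhom_apply (σ : M24) : Lhom D σ = D.L σ := rfl

theorem Lhom_injective : Function.Injective (Lhom D) := fun _ _ h => D.L_inj h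

/-- the permutation part, in the group -/
noncomputable def UG : Subgroup G := U.map (Lhom D)

theorem V9_le_V : V9 D ≤ D.V := vSub_le_V D _

theorem Zs_le_V : Zs D ≤ D.V := vSub_le_V D _

theorem UG_le_K : UG D ≤ D.K := by
  rintro _ ⟨σ, -, rfl⟩; exact D.L_mem_K σ

theorem mem_UG {g : G} : g ∈ UG D ↔ ∃ u ∈ uList, D.L (el u) = g := by
  constructor
  · rintro ⟨σ, hσ, rfl⟩
    obtain ⟨u, hu, rfl⟩ := mem_U_iff.1 hσ
    exact ⟨u, hu, rfl⟩
  · rintro ⟨u, hu, rfl⟩
    exact ⟨el u, mem_U_iff.2 ⟨u, hu, rfl⟩, rfl⟩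

theorem Zs_le_V9 : Zs D ≤ V9 D := by
  refine vSub_le D fun a ha => ?_
  obtain ⟨b, hb, e⟩ := exists_memC D ev_check.2.1 (ev_zGen ha)
    (List.all_eq_true.1 v9_check.2.2.2 a ha)
  exact ⟨b, hb, e.symm⟩

theorem conj_vm_mem {H : Subgroup G} {σ : M24} {g : ℕ} (hr : Rep (σ : Equiv.Perm GolayPt) g)
    {l : List ℕ} (hl : l.all evB = true)
    (h : ∀ a ∈ l, D.vm (actP g a) ∈ H) : ∀ v ∈ vSub D l, D.L σ * v * (D.L σ)⁻¹ ∈ H := by
  rintro _ ⟨w, hw, rfl⟩
  refine spanList_induction (P := fun w => D.L σ * D.vm w * (D.L σ)⁻¹ ∈ H) ?_ (fun a ha => ?_)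
    (fun a b ha hb => ?_) w hw
  · rw [D.vm_zero]; simp
  · rw [D.L_vm hr (ev_span hl (mem_spanList_self ha))]; exact h a ha
  · rw [D.vm_xor, show D.L σ * (D.vm a * D.vm b) * (D.L σ)⁻¹ =
      D.L σ * D.vm a * (D.L σ)⁻¹ * (D.L σ * D.vm b * (D.L σ)⁻¹) by group]
    exact mul_mem ha hb

theorem comm_vm {u m : ℕ} (hu : u ∈ uMasks) (hm : m ∈ vMasks) :
    D.vm m * (D.L (el u) * D.vm m * (D.L (el u))⁻¹) ∈ Zs D := by
  have hr := rep_el (repIn_uMask hu)
  rw [D.L_vm hr (ev_vMask hm), ← D.vm_xor]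
  obtain ⟨b, hb, e⟩ := exists_memC D ev_check.1 ((ev_vMask hm).xor (ev_of_rep hr (ev_vMask hm)))
    (List.all_eq_true.1 (List.all_eq_true.1 comm_check.1 u hu) m hm)
  exact ⟨b, hb, e.symm⟩

theorem UG_le_normalizer_V9 : UG D ≤ Subgroup.normalizer (V9 D : Set G) := by
  rw [UG, U, MonoidHom.map_closure, Subgroup.closure_le]
  rintro _ ⟨_, ⟨u, hu, rfl⟩, rfl⟩
  rw [SetLike.mem_coe]
  have hr := rep_el (repIn_uMask hu)
  have hc : ∀ v ∈ V9 D, D.L (el u) * v * (D.L (el u))⁻¹ ∈ V9 D := by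
    refine conj_vm_mem D hr ev_check.2.1 fun a ha => ?_
    have h := Zs_le_V9 D (comm_vm D hu ha)
    rw [D.L_vm hr (ev_vMask ha)] at h
    have h2 := mul_mem (vm_mem_vSub D ha : D.vm a ∈ V9 D) h
    rwa [← mul_assoc, D.vm_sq, one_mul] at h2
  have hinv : (D.L (el u))⁻¹ = D.L (el u) := by
    rw [← D.L_inv, inv_eq_of_mul_eq_one_right (el_uMask_sq hu)]
  refine Subgroup.mem_normalizer_iff.2 fun v => ⟨hc v, fun h => ?_⟩
  rw [Lhom_apply] at h
  have h2 := hc _ h
  rw [hinv] at h2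
  have e : D.L (el u) * D.L (el u) = 1 := by rw [← D.L_mul, el_uMask_sq hu, D.L_one]
  have e2 : v = D.L (el u) * (D.L (el u) * v * D.L (el u)) * D.L (el u) := by
    rw [← mul_assoc, ← mul_assoc, e, one_mul, mul_assoc, e, mul_one]
  rwa [← e2] at h2

/-- the subgroup of order `2^15` -/
noncomputable def Lsub : Subgroup G := V9 D ⊔ UG D

theorem mem_Lsub {g : G} :
    g ∈ Lsub D ↔ ∃ v ∈ V9 D, ∃ u ∈ uList, g = v * D.L (el u) := by
  constructor
  · intro hg
    have h : g ∈ (↑(V9 D ⊔ UG D) : Set G) := hg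
    rw [Subgroup.coe_mul_of_right_le_normalizer_left _ _ (UG_le_normalizer_V9 D)] at h
    obtain ⟨v, hv, w, hw, rfl⟩ := h
    obtain ⟨u, hu, rfl⟩ := (mem_UG D).1 hw
    exact ⟨v, hv, u, hu, rfl⟩
  · rintro ⟨v, hv, u, hu, rfl⟩
    exact mul_mem (Subgroup.mem_sup_left hv) (Subgroup.mem_sup_right ((mem_UG D).2 ⟨u, hu, rfl⟩))

theorem V9_le_Lsub : V9 D ≤ Lsub D := le_sup_left

theorem UG_le_Lsub : UG D ≤ Lsub D := le_sup_right

theorem Zs_le_Lsub : Zs D ≤ Lsub D := (Zs_le_V9 D).trans (V9_le_Lsub D)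

theorem Lsub_le_normalizer : Lsub D ≤ Subgroup.normalizer (D.V : Set G) :=
  sup_le ((V9_le_V D).trans (JankoFourSeven.V_le_normalizer D)) ((UG_le_K D).trans D.K_le)

theorem natCard_vSub {l : List ℕ} (hl : l.all evB = true) (hnd : (spanList l).Nodup)
    (h : ∀ i < (spanList l).length, i ≠ 0 → inCode ((spanList l).getD i 0) = false)
    (h0 : (spanList l).getD 0 0 = 0) : Nat.card (vSub D l) = (spanList l).length := by
  classical
  have hinj : ∀ a ∈ spanList l, ∀ b ∈ spanList l, D.vm a = D.vm b → a = b := by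
    intro a ha hb' hb e
    have hx := spanList_xor l ha hb
    have hc := D.inCode_of_vm_eq_one (ev_span hl hx) (by rw [D.vm_xor, e, D.vm_sq])
    obtain ⟨i, hi, hie⟩ := List.getElem_of_mem hx
    by_cases hi0 : i = 0
    · subst hi0
      rw [List.getD_eq_getElem _ _ hi] at h0
      rw [h0] at hie
      exact Nat.xor_eq_zero_iff.1 hie.symm
    · have := h i hi hi0
      rw [List.getD_eq_getElem _ _ hi, hie, hc] at this
      exact absurd this (by decide)
  rw [← List.toFinset_card_of_nodup hnd, ← Nat.card_eq_finsetCard]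
  refine (Nat.card_eq_of_bijective (fun a : ↥(spanList l).toFinset =>
    (⟨D.vm a, (a : ℕ), List.mem_toFinset.1 a.2, rfl⟩ : vSub D l)) ⟨?_, ?_⟩).symm
  · intro a b e
    exact Subtype.ext (hinj _ (List.mem_toFinset.1 a.2) _ (List.mem_toFinset.1 b.2)
      (congrArg Subtype.val e))
  · rintro ⟨_, w, hw, rfl⟩
    exact ⟨⟨w, List.mem_toFinset.2 hw⟩, rfl⟩

theorem card_Zs : Nat.card (Zs D) = 8 := by
  have hlen : zList.length = 8 := span_check.2.1
  rw [Zs, natCard_vSub D ev_check.1 (by decide +kernel) (fun i hi h0 => ?_) (by decide +kernel)]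
  · exact hlen
  · have h := z_check.2.2.2
    simp only [List.all_eq_true, List.mem_range, Bool.or_eq_true, Bool.not_eq_true', Nat.beq_eq]
      at h
    have h1 := (h i (hlen ▸ hi) 0 (by norm_num)).resolve_left h0
    rw [show zList.getD 0 0 = 0 by decide +kernel] at h1
    change inCode (zList.getD i 0 ^^^ 0) = false at h1
    rw [Nat.xor_zero] at h1
    exact h1

theorem card_V9 : Nat.card (V9 D) = 512 := by
  have hlen : v9List.length = 512 := span_check.2.2.1
  rw [V9, natCard_vSub D ev_check.2.1 span_check.1 (fun i hi h0 => ?_) (by decide +kernel)]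
  · exact hlen
  · have h := v9_index
    simp only [List.all_eq_true, List.mem_range, Bool.or_eq_true, Bool.not_eq_true', Nat.beq_eq]
      at h
    exact (h i (hlen ▸ hi)).resolve_left h0

theorem uList_el_inj {a b : ℕ} (ha : a ∈ uList) (hb : b ∈ uList) (h : el a = el b) :
    a = b := by
  have hn : ∀ u ∈ uList, compP u eP = u := by decide +kernel
  rw [← hn a ha, ← hn b hb, compP, compP]
  congr 1
  refine List.map_congr_left fun i hi => ?_
  have hlt : getP eP i < 24 := by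
    revert i; decide +kernel
  exact el_inj (repIn_uList ha) (repIn_uList hb) h hlt

theorem card_UG : Nat.card (UG D) = 64 := by
  classical
  rw [UG, Subgroup.card_map_of_injective (Lhom_injective D), ← span_check.2.2.2.1,
    ← List.toFinset_card_of_nodup u_check.2.2.2.2.2, ← Nat.card_eq_finsetCard]
  refine (Nat.card_eq_of_bijective (fun a : ↥uList.toFinset =>
    (⟨el a, mem_U_iff.2 ⟨a, List.mem_toFinset.1 a.2, rfl⟩⟩ : U)) ⟨?_, ?_⟩).symm
  · intro a b e
    exact Subtype.ext (uList_el_inj (List.mem_toFinset.1 a.2) (List.mem_toFinset.1 b.2)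
      (congrArg Subtype.val e))
  · rintro ⟨σ, hσ⟩
    obtain ⟨u, hu, rfl⟩ := mem_U_iff.1 hσ
    exact ⟨⟨u, List.mem_toFinset.2 hu⟩, rfl⟩

theorem card_Lsub : Nat.card (Lsub D) = 2 ^ 15 := by
  have hdis : Disjoint (V9 D) (UG D) := disjoint_iff.2 (le_bot_iff.1 (by
    rw [← D.inf, inf_comm D.K]; exact inf_le_inf (V9_le_V D) (UG_le_K D)))
  rw [show (2 : ℕ) ^ 15 = 512 * 64 by norm_num, ← card_V9 D, ← card_UG D, ← Nat.card_prod]
  refine (Nat.card_eq_of_bijective (fun x : V9 D × UG D =>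
    (⟨(x.1 : G) * x.2, mul_mem (V9_le_Lsub D x.1.2) (UG_le_Lsub D x.2.2)⟩ : Lsub D))
    ⟨?_, ?_⟩).symm
  · intro x y e
    exact Subgroup.mul_injective_of_disjoint hdis (congrArg Subtype.val e)
  · rintro ⟨g, hg⟩
    obtain ⟨v, hv, u, hu, rfl⟩ := (mem_Lsub D).1 hg
    exact ⟨(⟨v, hv⟩, ⟨_, (mem_UG D).2 ⟨u, hu, rfl⟩⟩), rfl⟩

end CfsgLib.Spor.JankoFourPentad
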